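import Groth.Prelude.Def_HRes
import Groth.Agent.S5714
import Groth.Agent.Dix.K280.EdgeEt
import Groth.Agent.Dix.K280.PointHilb
import Groth.Agent.CohtopA.GmDivH1
import Groth.Agent.Etrest.FppfExact

/-!
# `H²_fppf(X, G_m)` of a factorial scheme injects into `H²_fppf` of the generic points

Comparison of restriction maps on the fppf site with the small étale site, and `main`: for a noetherian scheme all of
whose étale schemes have factorial local rings, a class of `H²_fppf(X, G_m)` whose restrictions to the generic points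
vanish is zero.
-/

set_option autoImplicit false

universe u

open CategoryTheory CategoryTheory.Limits AlgebraicGeometry Opposite CategoryTheory.Abelian

namespace K574.GmInj

open Groth.Agent Groth.Agent.Etbase.ExtCompare

noncomputable section

abbrev fp : Precoverage Scheme.{u} := Scheme.fppfPrecoverage.{u}

instance exa (X : Scheme.{u}) : PreservesFiniteLimits (EtFppf.aPull X) :=
  Etrest.FppfExact.aPull_preservesFiniteLimits X

instance exb (X : Scheme.{u}) : PreservesFiniteColimits (EtFppf.aPull X) :=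
  have : PreservesColimitsOfSize.{0, 0} (EtFppf.aPull X) := (EtFppf.aAdj X).leftAdjoint_preservesColimits
  PreservesColimitsOfSize.preservesFiniteColimits _

instance exc (X : Scheme.{u}) : (EtFppf.aPull X).Additive := (EtFppf.aAdj X).left_adjoint_additive

variable {X Y : Scheme.{u}}

/-- the edge map -/
def eX (X : Scheme.{u}) (ξ : Ext (EtCoh.const X ℤ) ((EtFppf.aPush X).obj (EtDl.GmF X)) 2) :
    BigSite.H fp X (EtDl.GmF X) 2 :=
  (Ext.mk₀ (Etrest.FppfExact.constIso X (AddCommGrpCat.of (ULift ℤ))).inv).comp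
    (cmp (EtFppf.aPull X) (EtCoh.const X ℤ) ((EtFppf.aAdj X).counit.app (EtDl.GmF X)) 2 ξ) (zero_add 2)

theorem eX_surjective : Function.Surjective (eX X) := by
  intro y
  have h1 := K280.EdgeLow.low (EtFppf.aPull X) (EtFppf.aAdj X) (EtCoh.const X ℤ) 2 (EtDl.GmF X)
    (fun q hq _ => Groth.Agent.S5714.result X q hq)
  obtain ⟨ξ, hξ⟩ := h1.1.2
    ((Ext.mk₀ (Etrest.FppfExact.constIso X (AddCommGrpCat.of (ULift ℤ))).hom).comp y (zero_add 2))
  refine ⟨ξ, ?_⟩
  rw [eX, hξ, Ext.mk₀_comp_mk₀_assoc, Iso.inv_hom_id]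
  exact Ext.mk₀_id_comp _

variable (f : Y ⟶ X)

/-- the left adjoint on the small site of `X`, with values in the big site of `Y` -/
abbrev LL : EtCoh.Ab X ⥤ EtFppf.AbF Y := EtFppf.aPull X ⋙ BigSite.pullBig fp f AddCommGrpCat.{u + 1}

/-- its right adjoint -/
abbrev GG : EtFppf.AbF Y ⥤ EtCoh.Ab X := BigSite.pushBig fp f AddCommGrpCat.{u + 1} ⋙ EtFppf.aPush X

/-- the adjunction -/
def adj : LL f ⊣ GG f := (EtFppf.aAdj X).comp (BigSite.bigAdj fp f AddCommGrpCat.{u + 1})

/-- restriction of the edge map in terms of the small site -/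
theorem pull_eX (ξ : Ext (EtCoh.const X ℤ) ((EtFppf.aPush X).obj (EtDl.GmF X)) 2)
    (h : HRes.pull fp f (EtDl.GmF X) 2 (eX X ξ) = 0) :
    cmp (LL f) (EtCoh.const X ℤ)
      ((BigSite.pullBig fp f AddCommGrpCat.{u + 1}).map ((EtFppf.aAdj X).counit.app (EtDl.GmF X))) 2 ξ = 0 := by
  rw [HRes.pull_apply, eX, Ext.mapExactFunctor_comp, Ext.mapExactFunctor_mk₀, Ext.mk₀_comp_mk₀_assoc] at h
  have h2 : (cmp (EtFppf.aPull X) (EtCoh.const X ℤ) ((EtFppf.aAdj X).counit.app (EtDl.GmF X)) 2 ξ).mapExactFunctor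
      (BigSite.pullBig fp f AddCommGrpCat.{u + 1}) = 0 := by
    have h3 := congrArg (fun e => (Ext.mk₀ (inv ((HRes.pullConst fp f (AddCommGrpCat.of (ULift.{u + 1} ℤ))).inv ≫
      (BigSite.pullBig fp f AddCommGrpCat.{u + 1}).map
        (Etrest.FppfExact.constIso X (AddCommGrpCat.of (ULift ℤ))).inv))).comp e (zero_add 2)) h
    rw [Ext.mk₀_comp_mk₀_assoc, IsIso.inv_hom_id, Ext.comp_zero] at h3
    rw [← h3]
    exact (Ext.mk₀_id_comp _).symm
  rw [cmp_apply, Etcore.ExtAdj.mapExactFunctor_compFunctor]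
  rw [cmp_apply, Ext.mapExactFunctor_comp, Ext.mapExactFunctor_mk₀] at h2
  exact h2

/-- the class in the direct image vanishes -/
theorem comp_eq_zero (hR : IsZero ((EtCoh.Rpush f 1).obj (EtCoh.Gm Y)))
    (ξ : Ext (EtCoh.const X ℤ) ((EtFppf.aPush X).obj (EtDl.GmF X)) 2)
    (h : HRes.pull fp f (EtDl.GmF X) 2 (eX X ξ) = 0) :
    ξ.comp (Ext.mk₀ ((EtFppf.aPush X).map (EtDl.resGmF f))) (add_zero 2) = 0 := by
  have h1 := pull_eX f ξ h
  have h2 := cmp_naturality (LL f) (EtCoh.const X ℤ)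
    ((BigSite.pullBig fp f AddCommGrpCat.{u + 1}).map ((EtFppf.aAdj X).counit.app (EtDl.GmF X)))
    ((adj f).counit.app (EtDl.GmF Y)) ((EtFppf.aPush X).map (EtDl.resGmF f))
    ((BigSite.pullBig fp f AddCommGrpCat.{u + 1}).map (EtDl.resGmF f) ≫
      (BigSite.bigAdj fp f AddCommGrpCat.{u + 1}).counit.app (EtDl.GmF Y)) (by
        have e : (BigSite.pullBig fp f AddCommGrpCat.{u + 1}).map
            ((EtFppf.aPull X).map ((EtFppf.aPush X).map (EtDl.resGmF f))) ≫
            (BigSite.pullBig fp f AddCommGrpCat.{u + 1}).map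
              ((EtFppf.aAdj X).counit.app ((BigSite.pushBig fp f AddCommGrpCat.{u + 1}).obj (EtDl.GmF Y))) =
            (BigSite.pullBig fp f AddCommGrpCat.{u + 1}).map ((EtFppf.aAdj X).counit.app (EtDl.GmF X)) ≫
              (BigSite.pullBig fp f AddCommGrpCat.{u + 1}).map (EtDl.resGmF f) := by
          rw [← Functor.map_comp, ← Functor.map_comp]
          congr 1
          exact (EtFppf.aAdj X).counit.naturality (EtDl.resGmF f)
        rw [adj, Adjunction.comp_counit_app, ← Category.assoc]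
        exact (congrArg (fun t => t ≫ (BigSite.bigAdj fp f AddCommGrpCat.{u + 1}).counit.app (EtDl.GmF Y)) e).trans
          (Category.assoc _ _ _)) 2 ξ
  rw [h1, Ext.zero_comp] at h2
  let S : ShortComplex (EtFppf.AbF Y) := ShortComplex.mk (Injective.ι (EtDl.GmF Y))
    (cokernel.π (Injective.ι (EtDl.GmF Y))) (cokernel.condition _)
  have hS : S.ShortExact :=
    { exact := ShortComplex.exact_cokernel _
      mono_f := inferInstanceAs (Mono (Injective.ι (EtDl.GmF Y)))
      epi_g := inferInstanceAs (Epi (cokernel.π (Injective.ι (EtDl.GmF Y)))) }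
  have hI : Injective S.X₂ := inferInstanceAs (Injective (Injective.under (EtDl.GmF Y)))
  have hinj : Function.Injective (cmp (LL f) (EtCoh.const X ℤ) ((adj f).counit.app (EtDl.GmF Y)) 2) := by
    have hep : Epi ((GG f).map S.g) := by
      have e1 : IsZero (((EtFppf.aPush Y).rightDerived 1).obj S.X₁) := Groth.Agent.S5714.result Y 1 one_pos
      have e2 := Cohder.RDAcyc.map_shortExact (EtFppf.aPush Y) hS e1
      have e3 : IsZero (((EtCoh.push f).rightDerived 1).obj (S.map (EtFppf.aPush Y)).X₁) := hR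
      exact (Cohder.RDAcyc.map_shortExact (EtCoh.push f) e2 e3).epi_g
    exact (K280.EdgeLow.shift (LL f) (adj f) (EtCoh.const X ℤ) (w := S.zero) hS hep 1).1
      (K280.EdgeLow.low (LL f) (adj f) (EtCoh.const X ℤ) 0 S.X₃ (fun q h1 h2 => absurd h1 (by lia))).2
  apply hinj
  rw [h2, map_zero]

end

open Groth.Agent.CohtopA in
/-- the étale statement -/
theorem et (X : Scheme.{u}) [IsNoetherian X] [hE : GmDivGen.ELF X] (ξ : EtCoh.H X (EtCoh.Gm X) 2)
    (key : ∀ η : GmDivK.Gen X, Abelian.Ext.comp ξ (Abelian.Ext.mk₀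
      (GmDivEval.gmPush (X.fromSpecResidueField η.1))) (add_zero 2) = 0) : ξ = 0 := by
  apply Groth.Agent.CohtopA.GmDivH1.H2_gmK_injective X
  rw [map_zero]
  change Abelian.Ext.comp ξ (Abelian.Ext.mk₀ (Groth.Agent.CohtopA.GmDivK.gmK X)) (add_zero 2) = 0
  have := Fintype.ofFinite (Groth.Agent.CohtopA.GmDivK.Gen X)
  rw [← Category.comp_id (Groth.Agent.CohtopA.GmDivK.gmK X),
    ← Groth.Agent.CohtopA.GmDivK.K_total X, Preadditive.comp_sum,
    Groth.Agent.CohtopA.GmDivH.ext_mk₀_sum, Groth.Agent.CohtopA.GmDivH.ext_comp_sum]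
  refine Finset.sum_eq_zero (fun η _ => ?_)
  have e0 : GmDivK.gmK X ≫ GmDivK.Kπ X η ≫ GmDivK.Kι X η =
      GmDivEval.gmPush (X.fromSpecResidueField η.1) ≫ GmDivK.Kι X η := by
    rw [← Category.assoc, GmDivK.gmK_Kπ]
    rfl
  rw [e0]
  have e1 := Abelian.Ext.mk₀_comp_mk₀ (GmDivEval.gmPush (X.fromSpecResidueField η.1)) (GmDivK.Kι X η)
  refine (congrArg (fun t => Abelian.Ext.comp ξ t (add_zero 2)) e1.symm).trans ?_
  refine (Abelian.Ext.comp_assoc_of_third_deg_zero ξ _ _ (add_zero 2)).symm.trans ?_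
  refine (congrArg (fun t => Abelian.Ext.comp t
    (Abelian.Ext.mk₀ (GmDivK.Kι X η)) (add_zero 2)) (key η)).trans ?_
  exact Abelian.Ext.zero_comp _ _ _ _ _

open Groth.Agent.CohtopA in
/-- A class of `H²_fppf(X, G_m)` vanishing at the generic points vanishes, for `X` noetherian with all étale schemes
locally factorial. -/
theorem main (X : Scheme.{u}) [IsNoetherian X] [hE : GmDivGen.ELF X] (y : BigSite.H fp X (EtDl.GmF X) 2)
    (hy : ∀ η : GmDivK.Gen X, HRes.pull fp (X.fromSpecResidueField η.1) (EtDl.GmF X) 2 y = 0) : y = 0 := by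
  obtain ⟨ξ, rfl⟩ := eX_surjective y
  have hξ : ξ = 0 := et X ξ fun η => comp_eq_zero (X.fromSpecResidueField η.1)
    (K280.PointHilb.isZero_Rpush_one (K := X.residueField η.1) (X.fromSpecResidueField η.1)) ξ (hy η)
  rw [hξ, eX, map_zero, Ext.comp_zero]

end K574.GmInj
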