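import Groth.Agent.TateGlob.K827.H1

/-!
# Cohomology of `G`-torsor coverings in degrees one and two

For an abstract cohomology theory on a big site and a covering `p : X' ⟶ X` which is a torsor under a finite group `G`
(`GTor`): Čech cocycles for `p` are the same as group cocycles (`exists_coc_of_gcoc`, `cob_of_gcob`), a vanishing
criterion in degree one (`H1_eq_zero`) and an injectivity criterion in degree two (`H2_injective`).
-/

set_option autoImplicit false

universe u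

open CategoryTheory CategoryTheory.Limits AlgebraicGeometry Opposite
open Groth.Agent.Etrest.FppfCoch K828 K828.Cech K828.Cartan K827.H1

namespace K574.CechTwo

variable {K : Precoverage Scheme.{u}} {S : Scheme.{u}}

/-- glueing along a covering sieve -/
theorem glue (F : BigSite.Ab K S) {W : Over S} (R : Sieve W) (hR : R ∈ QuotSh.J K S W)
    (x : ∀ ⦃V : Over S⦄ (f : V ⟶ W), R f → F.obj.obj (op V))
    (hx : ∀ ⦃V V' : Over S⦄ (g : V' ⟶ V) (f : V ⟶ W) (hf : R f),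
      rs F g (x f hf) = x (g ≫ f) (R.downward_closed hf g)) :
    ∃ t : F.obj.obj (op W), ∀ ⦃V : Over S⦄ (f : V ⟶ W) (hf : R f), rs F f t = x f hf := by
  have h1 := ((isSheaf_iff_isSheaf_of_type _ _).mp
    ((sheafCompose (QuotSh.J K S) (forget AddCommGrpCat.{u + 1})).obj F).property) R hR
  obtain ⟨t, ht, -⟩ := h1 (fun V f hf => x f hf) (by
    intro Y₁ Y₂ Z g₁ g₂ f₁ f₂ hf₁ hf₂ e
    refine (hx g₁ f₁ hf₁).trans ?_
    refine Eq.trans ?_ (hx g₂ f₂ hf₂).symm
    congr 1)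
  exact ⟨t, fun V f hf => ht f hf⟩

/-- sections are determined on a covering sieve -/
theorem ext (F : BigSite.Ab K S) {W : Over S} (R : Sieve W) (hR : R ∈ QuotSh.J K S W) (s t : F.obj.obj (op W))
    (h : ∀ ⦃V : Over S⦄ (f : V ⟶ W), R f → rs F f s = rs F f t) : s = t := by
  have h1 := ((isSheaf_iff_isSheaf_of_type _ _).mp
    ((sheafCompose (QuotSh.J K S) (forget AddCommGrpCat.{u + 1})).obj F).property) R hR
  exact h1.isSeparatedFor.ext fun V f hf => h f hf

/-- a covering which is a torsor under `G` -/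
structure GTor (K : Precoverage Scheme.{u}) {S : Scheme.{u}} {X' X : Over S} (p : X' ⟶ X) {G : Type} [Group G]
    (σ : G → (X' ⟶ X')) : Prop where
  cov : Sieve.generate (Presieve.singleton p) ∈ QuotSh.J K S X
  mul : ∀ g h, σ (g * h) = σ g ≫ σ h
  one : σ 1 = 𝟙 X'
  inv : ∀ g, σ g ≫ p = p
  split : ∀ {W : Over S} (a b : W ⟶ X'), a ≫ p = b ≫ p →
    ∃ R ∈ QuotSh.J K S W, ∀ ⦃V : Over S⦄ (f : V ⟶ W), R f → ∃ g, f ≫ b = (f ≫ a) ≫ σ g
  free : ∀ {W : Over S} (a : W ⟶ X') (g h : G), a ≫ σ g = a ≫ σ h → g ≠ h → ⊥ ∈ QuotSh.J K S W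

variable {X' X : Over S} {p : X' ⟶ X} {G : Type} [Group G] {σ : G → (X' ⟶ X')}

/-- two elements of `G` carrying `a` to the same morphism have the same effect on sections pulled back along `a` -/
lemma GTor.rs_eq (hT : GTor K p σ) (F : BigSite.Ab K S) (t : G → F.obj.obj (op X')) {W : Over S} (a : W ⟶ X')
    (g h : G) (e : a ≫ σ g = a ≫ σ h) : rs F a (t g) = rs F a (t h) := by
  by_cases hgh : g = h
  · rw [hgh]
  · exact ext F ⊥ (hT.free a g h e hgh) _ _ fun V f hf => hf.elim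

/-- the group cocycle of a Čech cocycle -/
lemma gcoc_of_coc (hT : GTor K p σ) {F : BigSite.Ab K S} {c : Pr F X'} (hc : IsCoc p c) (g h : G) :
    c X' (𝟙 X') (σ (g * h)) = c X' (𝟙 X') (σ g) + rs F (σ g) (c X' (𝟙 X') (σ h)) := by
  have h1 : rs F (σ g) (c X' (𝟙 X') (σ h)) = c X' (σ g ≫ 𝟙 X') (σ g ≫ σ h) :=
    (hc.nat (σ g) (𝟙 X') (σ h) (by rw [Category.id_comp, hT.inv])).symm
  rw [h1, ← hT.mul, Category.comp_id]
  exact (hc.add (𝟙 X') (σ g) (σ (g * h)) (by rw [Category.id_comp, hT.inv]) (by rw [hT.inv, hT.inv])).symm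

/-- Čech coboundaries from group coboundaries -/
lemma cob_of_gcob (hT : GTor K p σ) {F : BigSite.Ab K S} {c : Pr F X'} (hc : IsCoc p c) (γ : F.obj.obj (op X'))
    (hγ : ∀ g, c X' (𝟙 X') (σ g) = rs F (σ g) γ - γ) {W : Over S} (a b : W ⟶ X') (hab : a ≫ p = b ≫ p) :
    c W a b = rs F b γ - rs F a γ := by
  obtain ⟨R, hR, h⟩ := hT.split a b hab
  refine ext F R hR _ _ fun V f hf => ?_
  obtain ⟨g, hg⟩ := h f hf
  have h1 : rs F f (c W a b) = c V (f ≫ a) (f ≫ b) := (hc.nat f a b hab).symm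
  have h2 := hc.nat (f ≫ a) (𝟙 X') (σ g) (by rw [Category.id_comp, hT.inv])
  rw [Category.comp_id] at h2
  rw [h1, hg, h2, hγ, rs_sub]
  change rs F (f ≫ a) (rs F (σ g) γ - γ) = _
  rw [rs_sub, rs_comp, rs_comp, rs_comp, hg]

/-- Čech cocycles from group cocycles -/
theorem exists_coc_of_gcoc (hT : GTor K p σ) (F : BigSite.Ab K S) (t : G → F.obj.obj (op X'))
    (ht : ∀ g h, t (g * h) = t g + rs F (σ g) (t h)) :
    ∃ c : Pr F X', IsCoc p c ∧ ∀ g, c X' (𝟙 X') (σ g) = t g := by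
  classical
  have key : ∀ {W : Over S} (a b : W ⟶ X'), a ≫ p = b ≫ p → ∃ s : F.obj.obj (op W),
      ∀ ⦃V : Over S⦄ (f : V ⟶ W) (g : G), f ≫ b = (f ≫ a) ≫ σ g → rs F f s = rs F (f ≫ a) (t g) := by
    intro W a b hab
    obtain ⟨R, hR, h⟩ := hT.split a b hab
    obtain ⟨s, hs⟩ := glue F R hR (fun V f hf => rs F (f ≫ a) (t (h f hf).choose)) (by
      intro V V' k f hf
      have h1 := (h f hf).choose_spec
      have h2 := (h (k ≫ f) (R.downward_closed hf k)).choose_spec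
      rw [rs_comp, ← Category.assoc]
      apply hT.rs_eq
      rw [← h2, Category.assoc, Category.assoc, Category.assoc]
      rw [Category.assoc] at h1
      rw [← h1])
    refine ⟨s, fun V f g hg => ?_⟩
    refine ext F (R.pullback f) ((QuotSh.J K S).pullback_stable f hR) _ _ fun V' k hk => ?_
    have h1 := hs (k ≫ f) hk
    rw [rs_comp, h1, rs_comp, ← Category.assoc]
    apply hT.rs_eq
    have h2 := (h (k ≫ f) hk).choose_spec
    rw [← h2, Category.assoc, Category.assoc, Category.assoc]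
    rw [Category.assoc] at hg
    rw [← hg]
  let c : Pr F X' := fun W a b => if hab : a ≫ p = b ≫ p then (key a b hab).choose else 0
  have hc : ∀ {W : Over S} (a b : W ⟶ X'), a ≫ p = b ≫ p → ∀ ⦃V : Over S⦄ (f : V ⟶ W) (g : G),
      f ≫ b = (f ≫ a) ≫ σ g → rs F f (c W a b) = rs F (f ≫ a) (t g) := by
    intro W a b hab
    simp only [c, dif_pos hab]
    exact (key a b hab).choose_spec
  have hu : ∀ {W : Over S} (a b : W ⟶ X') (hab : a ≫ p = b ≫ p) (s : F.obj.obj (op W)),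
      (∀ ⦃V : Over S⦄ (f : V ⟶ W) (g : G), f ≫ b = (f ≫ a) ≫ σ g → rs F f s = rs F (f ≫ a) (t g)) →
      s = c W a b := by
    intro W a b hab s hs
    obtain ⟨R, hR, h⟩ := hT.split a b hab
    refine ext F R hR _ _ fun V f hf => ?_
    obtain ⟨g, hg⟩ := h f hf
    rw [hs f g hg, hc a b hab f g hg]
  refine ⟨c, ⟨?_, ?_⟩, ?_⟩
  · intro W W' f a b hab
    symm
    apply hu _ _ (by rw [Category.assoc, hab, Category.assoc])
    intro V k g hg
    change rs F k (rs F f (c W a b)) = _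
    rw [rs_comp, hc a b hab (k ≫ f) g (by rw [Category.assoc, hg, Category.assoc, Category.assoc, Category.assoc,
      Category.assoc]), Category.assoc]
  · intro W a b d hab hbd
    apply hu _ _ (hab.trans hbd)
    intro V f g hg
    rw [rs_add]
    obtain ⟨R, hR, h⟩ := hT.split (f ≫ a) (f ≫ b) (by rw [Category.assoc, hab, Category.assoc])
    refine ext F R hR _ _ fun V' k hk => ?_
    obtain ⟨g₁, hg₁⟩ := h k hk
    have e1 : (k ≫ f) ≫ b = ((k ≫ f) ≫ a) ≫ σ g₁ := by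
      rw [Category.assoc, hg₁, Category.assoc, Category.assoc, Category.assoc, Category.assoc]
    have e2 : (k ≫ f) ≫ d = ((k ≫ f) ≫ b) ≫ σ (g₁⁻¹ * g) := by
      rw [e1, Category.assoc ((k ≫ f) ≫ a), ← hT.mul, mul_inv_cancel_left, Category.assoc, hg, Category.assoc,
        Category.assoc, Category.assoc]
    have h1 := hc a b hab (k ≫ f) g₁ e1
    have h2 := hc b d hbd (k ≫ f) (g₁⁻¹ * g) e2
    rw [rs_add, rs_comp, rs_comp, rs_comp, h1, h2, e1]
    have h3 := ht g₁ (g₁⁻¹ * g)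
    rw [mul_inv_cancel_left] at h3
    rw [h3, rs_add, rs_comp, ← Category.assoc]
  · intro g
    symm
    apply hu _ _ (by rw [Category.id_comp, hT.inv])
    intro V f g' hg'
    rw [Category.comp_id] at hg' ⊢
    exact hT.rs_eq F t f g g' hg'

variable (𝓗 : CohT K S)

/-- vanishing in degree one -/
theorem H1_eq_zero (hT : GTor K p σ) (F : BigSite.Ab K S) (hX' : ∀ x : 𝓗.H F 1 X', x = 0)
    (hG : ∀ t : G → F.obj.obj (op X'), (∀ g h, t (g * h) = t g + rs F (σ g) (t h)) →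
      ∃ γ : F.obj.obj (op X'), ∀ g, t g = rs F (σ g) γ - γ) (x : 𝓗.H F 1 X) : x = 0 := by
  obtain ⟨c, hc⟩ := exists_coc p x (hX' _)
  obtain ⟨γ, hγ⟩ := hG (fun g => c X' (𝟙 X') (σ g)) (fun g h => gcoc_of_coc hT hc.isCoc g h)
  exact hc.eq_zero hT.cov γ fun a b hab => cob_of_gcob hT hc.isCoc γ hγ a b hab

/-- sections of the quotient by an injective sheaf lift when `H¹` vanishes -/
lemma exists_lift_emb (F : BigSite.Ab K S) {T : Over S} (hT : ∀ x : 𝓗.H F 1 T, x = 0)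
    (q : (emb F).X₃.obj.obj (op T)) : ∃ s : (emb F).X₂.obj.obj (op T), (emb F).g.hom.app (op T) s = q :=
  (del_sec_eq_zero_iff 𝓗 (emb_exact F) q).1 (hT _)

/-- dimension shifting of a vanishing restriction -/
lemma res_eq_zero_of_del (F : BigSite.Ab K S) {T T' : Over S} (f : T' ⟶ T) (z : 𝓗.H (emb F).X₃ 1 T)
    (h : 𝓗.res f (𝓗.del (emb_exact F) z) = 0) : 𝓗.res f z = 0 := by
  have hI : Injective (emb F).X₂ := inferInstanceAs (Injective (Injective.under F))
  rw [← 𝓗.del_res] at h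
  obtain ⟨w, hw⟩ := 𝓗.exact₃ (emb_exact F) _ h
  rw [← hw, 𝓗.inj (emb F).X₂ w, map_zero]

lemma aux_ab {M : Type*} [AddCommGroup M] (f₁ f₂ f₃ t₁ t₂ t₃ : M) (h : f₁ + f₂ - f₃ = t₁ + t₂ - t₃) :
    t₃ - f₃ = t₁ - f₁ + (t₂ - f₂) := by
  have : t₃ = t₁ + t₂ - (f₁ + f₂ - f₃) := by rw [h]; abel
  rw [this]
  abel

/-- Injectivity in degree two. -/
theorem H2_injective (hT : GTor K p σ) {Y' Y : Over S} {p' : Y' ⟶ Y} {σ' : G → (Y' ⟶ Y')} (j : Y ⟶ X) (j' : Y' ⟶ X')
    (w : j' ≫ p = p' ≫ j) (hσ : ∀ g, σ' g ≫ j' = j' ≫ σ g) (hp' : ∀ g, σ' g ≫ p' = p')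
    (hmul : ∀ g h, σ' (g * h) = σ' g ≫ σ' h) (F : BigSite.Ab K S)
    (hX' : ∀ x : 𝓗.H F 1 X', x = 0) (hY' : ∀ x : 𝓗.H F 1 Y', x = 0)
    (r : F.obj.obj (op Y') →+ F.obj.obj (op X')) (hr : ∀ s, r (rs F j' s) = s)
    (hrσ : ∀ g b, r (rs F (σ' g) b) = rs F (σ g) (r b))
    (y : 𝓗.H F 2 X) (h1 : 𝓗.res p y = 0) (h2 : 𝓗.res j y = 0) : y = 0 := by
  have hI : Injective (emb F).X₂ := inferInstanceAs (Injective (Injective.under F))
  have hle := le_of_shortExact (emb_exact F)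
  obtain ⟨z, rfl⟩ := 𝓗.exists_del (emb_exact F) y
  have hz1 := res_eq_zero_of_del 𝓗 F p z h1
  have hz2 := res_eq_zero_of_del 𝓗 F j z h2
  obtain ⟨c, hc⟩ := exists_coc p z hz1
  have hcj := hc.res j j' w
  rw [hz2] at hcj
  obtain ⟨e, he⟩ := hcj.exists_cob
  have he' : ∀ g, rs (emb F).X₃ j' (c X' (𝟙 X') (σ g)) = rs (emb F).X₃ (σ' g) e - e := by
    intro g
    have e1 := he (𝟙 Y') (σ' g) (by rw [Category.id_comp, hp'])
    rw [Category.id_comp, hσ, rs_id] at e1
    rw [← e1]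
    have e2 := hc.isCoc.nat j' (𝟙 X') (σ g) (by rw [Category.id_comp, hT.inv])
    rw [Category.comp_id] at e2
    exact e2.symm
  choose t ht using fun g => exists_lift_emb 𝓗 F hX' (c X' (𝟙 X') (σ g))
  obtain ⟨ê, hê⟩ := exists_lift_emb 𝓗 F hY' e
  have hβ : ∀ g, ∃ b : F.obj.obj (op Y'), (emb F).f.hom.app (op Y') b =
      rs (emb F).X₂ j' (t g) - (rs (emb F).X₂ (σ' g) ê - ê) := by
    intro g
    apply hle.ex
    rw [map_sub, map_sub, rs_nat, rs_nat, ht, hê, he', sub_self]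
  choose β hβ using hβ
  have ha : ∀ g h, ∃ a : F.obj.obj (op X'), (emb F).f.hom.app (op X') a =
      t g + rs (emb F).X₂ (σ g) (t h) - t (g * h) := by
    intro g h
    apply hle.ex
    rw [map_sub, map_add, rs_nat, ht, ht, ht, gcoc_of_coc hT hc.isCoc g h, sub_self]
  choose a ha using ha
  have haβ : ∀ g h, rs F j' (a g h) = β g + rs F (σ' g) (β h) - β (g * h) := by
    intro g h
    apply hle.inj'
    rw [rs_nat, ha, map_sub, map_add, rs_nat, hβ, hβ, hβ]
    simp only [rs_sub, rs_add, rs_comp]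
    rw [hmul, hσ]
    abel
  let u : G → F.obj.obj (op X') := fun g => r (β g)
  have hau : ∀ g h, a g h = u g + rs F (σ g) (u h) - u (g * h) := by
    intro g h
    rw [← hr (a g h), haβ, map_sub, map_add, hrσ]
  obtain ⟨C, hC, hCt⟩ := exists_coc_of_gcoc hT (emb F).X₂
    (fun g => t g - (emb F).f.hom.app (op X') (u g)) (by
      intro g h
      have e1 := ha g h
      rw [hau, map_sub, map_add, rs_nat] at e1
      have e2 := rs_sub (emb F).X₂ (σ g) (t h) ((emb F).f.hom.app (op X') (u h))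
      refine Eq.trans ?_ (congrArg _ e2.symm)
      exact aux_ab _ _ _ _ _ _ e1)
  obtain ⟨x, hx⟩ := exists_isCls 𝓗 hT.cov hC
  rw [𝓗.inj (emb F).X₂ x] at hx
  obtain ⟨i, hi⟩ := hx.exists_cob
  have hz : z = 0 := by
    refine hc.eq_zero hT.cov ((emb F).g.hom.app (op X') i) fun {W} a b hab => ?_
    apply cob_of_gcob hT hc.isCoc _ _ a b hab
    intro g
    have e1 := hi (𝟙 X') (σ g) (by rw [Category.id_comp, hT.inv])
    rw [hCt, rs_id] at e1
    have e2 := congrArg ((emb F).g.hom.app (op X')) e1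
    rw [map_sub, map_sub, ht, hle.comp, sub_zero, rs_nat] at e2
    exact e2
  rw [hz, map_zero]

end K574.CechTwo
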