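import Groth.Agent.MultTori.K574.GalPts
import Groth.Agent.MultTori.K574.CechTwo
import Groth.Agent.GmDual.K778.DisjSh
import Groth.Agent.TateGlob.K828.FppfDisj

/-!
# Galois coverings as torsor coverings

For a Galois extension `B / A` and `X` over `Spec A` the projection `X ⊗ Spec B ⟶ X` is a torsor covering for the fppf
topology.
-/

set_option autoImplicit false
universe u
open CategoryTheory CategoryTheory.Limits AlgebraicGeometry TensorProduct MonoidalCategory CartesianMonoidalCategory
open Opposite

namespace K574.Cover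

open K965.Gal K965.Pts K574.GalAlg K574.GalEv K574.GalPts K574.CechTwo

variable {A B : Type u} [CommRing A] [CommRing B] [Algebra A B] {G : Type} [Group G] [Fintype G]
  [MulSemiringAction G B] [SMulCommClass G A B]

/-- the covering object -/
noncomputable abbrev Xc (A B : Type u) [CommRing A] [CommRing B] [Algebra A B]
    (X : Over (Spec (CommRingCat.of A))) : Over (Spec (CommRingCat.of A)) := X ⊗ sp (algebraMap A B)

/-- the action on the covering object -/
noncomputable def sg (A B : Type u) [CommRing A] [CommRing B] [Algebra A B] {G : Type} [Group G]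
    [MulSemiringAction G B] [SMulCommClass G A B] (X : Over (Spec (CommRingCat.of A))) (g : G) : Xc A B X ⟶ Xc A B X :=
  X ◁ tau A B g

omit [Fintype G] in
@[simp] lemma sg_fst (X : Over (Spec (CommRingCat.of A))) (g : G) : sg A B X g ≫ fst _ _ = fst _ _ :=
  whiskerLeft_fst _ _

omit [Fintype G] in
@[simp] lemma sg_snd (X : Over (Spec (CommRingCat.of A))) (g : G) :
    sg A B X g ≫ snd _ _ = snd _ _ ≫ tau A B g :=
  whiskerLeft_snd _ _

omit [Fintype G] in
lemma sg_mul (X : Over (Spec (CommRingCat.of A))) (g h : G) : sg A B X (g * h) = sg A B X g ≫ sg A B X h := by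
  rw [sg, sg, sg, tau_mul, whiskerLeft_comp]

omit [Fintype G] in
lemma sg_one (X : Over (Spec (CommRingCat.of A))) : sg A B X (1 : G) = 𝟙 _ := by
  rw [sg, tau_one, whiskerLeft_id]

omit [Fintype G] in
lemma sg_nat {X Y : Over (Spec (CommRingCat.of A))} (j : Y ⟶ X) (g : G) :
    sg A B Y g ≫ (j ▷ _) = (j ▷ _) ≫ sg A B X g := by
  rw [sg, sg, whisker_exchange]

/-- the open subobject -/
noncomputable def op' (W : Over (Spec (CommRingCat.of A))) (e : Γ(W.left, ⊤)) : Over (Spec (CommRingCat.of A)) :=
  Over.mk ((W.left.basicOpen e).ι ≫ W.hom)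

/-- its inclusion -/
noncomputable def io (W : Over (Spec (CommRingCat.of A))) (e : Γ(W.left, ⊤)) : op' W e ⟶ W :=
  Over.homMk (W.left.basicOpen e).ι rfl

instance (W : Over (Spec (CommRingCat.of A))) (e : Γ(W.left, ⊤)) : IsOpenImmersion (io W e).left :=
  inferInstanceAs (IsOpenImmersion (W.left.basicOpen e).ι)

lemma isUnit_pf_io (W : Over (Spec (CommRingCat.of A))) (e : Γ(W.left, ⊤)) : IsUnit (pf (io W e) e) := by
  change IsUnit (((W.left.basicOpen e).ι).appTop.hom e)
  have h1 : (W.left.basicOpen e).ι ⁻¹ᵁ (W.left.basicOpen e) = ⊤ := by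
    exact Scheme.Opens.ι_preimage_self _
  have h2 := Scheme.preimage_basicOpen (W.left.basicOpen e).ι e
  rw [h1] at h2
  exact (RingedSpace.isUnit_of_isUnit_germ (X := ((W.left.basicOpen e) : Scheme).toPresheafedSpace |> fun _ => ((W.left.basicOpen e) : Scheme).toLocallyRingedSpace.toRingedSpace) ⊤ _ (fun x hx => by
    have : x ∈ ((W.left.basicOpen e) : Scheme).basicOpen (((W.left.basicOpen e).ι).appTop.hom e) := h2 ▸ hx
    exact (Scheme.mem_basicOpen _ _ x hx).1 this))

theorem gTor (hG : IsGal A B G) (X : Over (Spec (CommRingCat.of A))) :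
    GTor Scheme.fppfPrecoverage (fst X (sp (algebraMap A B))) (sg (G := G) A B X) := by
  obtain ⟨d⟩ := exists_dual hG
  have := hG.ff
  have := hG.et
  refine ⟨?_, sg_mul X, sg_one X, sg_fst X, ?_, ?_⟩
  · have h1 : Flat (Spec.map (CommRingCat.ofHom (algebraMap A B))) := by
      rw [Flat.SpecMap_iff]
      exact RingHom.flat_algebraMap_iff.2 inferInstance
    have h2 : LocallyOfFinitePresentation (Spec.map (CommRingCat.ofHom (algebraMap A B))) := by
      rw [LocallyOfFinitePresentation.SpecMap_iff]
      exact RingHom.finitePresentation_algebraMap.2 inferInstance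
    have h3 : Surjective (Spec.map (CommRingCat.ofHom (algebraMap A B))) := by
      rw [surjective_iff]
      exact (RingHom.FaithfullyFlat.iff_flat_and_comap_surjective.1
        (RingHom.faithfullyFlat_algebraMap_iff.2 inferInstance)).2
    refine K828.FppfDisj.generate_mem _ ?_ ?_ ?_
    · exact inferInstanceAs (Flat (pullback.fst X.hom (Spec.map (CommRingCat.ofHom (algebraMap A B)))))
    · exact inferInstanceAs
        (LocallyOfFinitePresentation (pullback.fst X.hom (Spec.map (CommRingCat.ofHom (algebraMap A B)))))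
    · exact inferInstanceAs (Surjective (pullback.fst X.hom (Spec.map (CommRingCat.ofHom (algebraMap A B)))))
  · intro W a b hab
    let α : B →ₐ[A] Γ(W.left, ⊤) := sb (a ≫ snd _ _)
    let β : B →ₐ[A] Γ(W.left, ⊤) := sb (b ≫ snd _ _)
    have hαβ : (α : B →+* Γ(W.left, ⊤)).comp (algebraMap A B) = (β : B →+* Γ(W.left, ⊤)).comp (algebraMap A B) := by
      rw [α.comp_algebraMap, β.comp_algebraMap]
    let e : G → Γ(W.left, ⊤) := d.eg (α : B →+* Γ(W.left, ⊤)) β
    have hsum : ∑ g, e g = 1 := d.sum_eg _ _ hαβ
    have hmul : ∀ g z, e g * β z = e g * α (g • z) := fun g z => d.eg_mul _ _ hαβ g z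
    refine ⟨_, K778.DisjSh.mem_J (fun g : G => op' W (e g)) (fun g => io W (e g)) ?_, ?_⟩
    · intro y
      by_contra hy
      push Not at hy
      have h1 : ∀ g, W.left.presheaf.germ ⊤ y trivial (e g) ∈
          IsLocalRing.maximalIdeal (W.left.presheaf.stalk y) := by
        intro g hg
        apply hy g
        change y ∈ Set.range (W.left.basicOpen (e g)).ι
        rw [Scheme.Opens.range_ι]
        rw [SetLike.mem_coe, Scheme.mem_basicOpen_top]
        simpa using hg
      have h2 : W.left.presheaf.germ ⊤ y trivial (∑ g, e g) ∈ IsLocalRing.maximalIdeal (W.left.presheaf.stalk y) := by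
        rw [map_sum]
        exact Ideal.sum_mem _ fun g _ => h1 g
      rw [hsum, map_one] at h2
      exact (Ideal.ne_top_iff_one _).1 (IsLocalRing.maximalIdeal.isMaximal _).ne_top h2
    · rintro V f ⟨V', k, _, ⟨g⟩, rfl⟩
      refine ⟨g, ?_⟩
      have key : io W (e g) ≫ b = (io W (e g) ≫ a) ≫ sg A B X g := by
        ext1
        · rw [Category.assoc, Category.assoc, sg_fst, Category.assoc, hab]
        · rw [Category.assoc, Category.assoc, sg_snd, Category.assoc, ← Category.assoc a]
          apply sb_injective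
          rw [sb_comp, ← Category.assoc, sb_tau, sb_comp]
          ext z
          change pf (io W (e g)) (β z) = pf (io W (e g)) (α (g • z))
          apply (isUnit_pf_io W (e g)).mul_left_cancel
          rw [← map_mul, ← map_mul, hmul]
      rw [Category.assoc, key]
      simp only [Category.assoc]
  · intro W a g h hgh hne
    have h1 : tr (sb (a ≫ snd _ _)) g = tr (sb (a ≫ snd _ _)) h := by
      rw [← sb_tau, ← sb_tau, Category.assoc, Category.assoc, ← sg_snd, ← sg_snd, ← Category.assoc, hgh,
        Category.assoc]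
    have h2 : (1 : Γ(W.left, ⊤)) = 0 :=
      d.eq_zero_of_eq (sb (a ≫ snd _ _) : B →+* Γ(W.left, ⊤)) g h hne (fun z => DFunLike.congr_fun h1 z)
    have h3 : IsEmpty W.left := by
      constructor
      intro y
      have h4 : (1 : W.left.presheaf.stalk y) = 0 := by
        rw [← map_one (W.left.presheaf.germ ⊤ y trivial).hom, h2, map_zero]
      exact one_ne_zero h4
    exact K778.DisjSh.bot_mem W

end K574.Cover
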