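import Groth.Agent.MultTori.K574.GmBr
import Groth.Agent.S0233
import Groth.Agent.S2821
import Groth.Agent.Fdesc.LocGenPullback
import Groth.Agent.Fga.UnitRestrict
import Groth.Agent.Ega4dB.SmoothReg

/-!
# Injectivity on `H²` for tori over open subschemes of spectra of factorial regular domains
-/

set_option autoImplicit false
set_option linter.unusedSectionVars false
universe u
open CategoryTheory CategoryTheory.Limits AlgebraicGeometry TensorProduct MonoidalCategory CartesianMonoidalCategory
open Opposite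

namespace K574.FinTor

open K965.Gal K965.Pts K574.GalAlg K574.GalEv K574.GalPts K574.CechTwo K574.Cover K964.DivSec K574.Geo K574.Geo2
open K574.RetrF K574.GmBr K828 K828.BigCoh K827.H1

/-- invariance of the triviality of invertible modules -/
theorem pic_of_isIso {X Y : Scheme.{u}} (g : X ⟶ Y) [IsIso g]
    (h : ∀ L : X.Modules, PicF.IsInvertible L → Nonempty (L ≅ Coh.structureModule X)) :
    ∀ L : Y.Modules, PicF.IsInvertible L → Nonempty (L ≅ Coh.structureModule Y) := by
  intro L hL
  obtain ⟨e⟩ := h _ (Groth.Agent.Fdesc.LocGen.isInvertible_pullback g hL)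
  have e1 : (Scheme.Modules.pullback (inv g)).obj ((Scheme.Modules.pullback g).obj L) ≅ L :=
    (Scheme.Modules.pullbackComp (inv g) g).app L ≪≫
      (Scheme.Modules.pullbackCongr (IsIso.inv_hom_id g)).app L ≪≫
        (Scheme.Modules.pullbackId Y).app L
  exact ⟨e1.symm ≪≫ (Scheme.Modules.pullback (inv g)).mapIso e ≪≫
    Groth.Agent.Fga.UnitRestrict.pullbackUnitIso (inv g)⟩

/-- invertible modules on open subschemes of the spectrum of a factorial domain are trivial -/
theorem pic_of_open {R : Type u} [CommRing R] [IsDomain R] [UniqueFactorizationMonoid R] {Z : Scheme.{u}}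
    (f : Z ⟶ Spec (CommRingCat.of R)) [IsOpenImmersion f] :
    ∀ L : Z.Modules, PicF.IsInvertible L → Nonempty (L ≅ Coh.structureModule Z) :=
  pic_of_isIso f.isoOpensRange.inv fun L hL => Groth.Agent.S0233.result R f.opensRange L hL

/-- étale schemes over a regular affine scheme have factorial local rings -/
theorem elf_of_regular {R : Type u} [CommRing R] [IsRegularRing R] {Z : Scheme.{u}}
    (f : Z ⟶ Spec (CommRingCat.of R)) [IsOpenImmersion f] : Groth.Agent.CohtopA.GmDivGen.ELF Z := by
  have hreg : ∀ x : Spec (CommRingCat.of R), IsRegularLocalRing ((Spec (CommRingCat.of R)).presheaf.stalk x) := by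
    intro x
    have h0 : (PrimeSpectrum.asIdeal (x : PrimeSpectrum R)).IsPrime := (x : PrimeSpectrum R).isPrime
    have h1 : IsRegularLocalRing (Localization.AtPrime (PrimeSpectrum.asIdeal (x : PrimeSpectrum R))) := inferInstance
    exact IsRegularLocalRing.of_ringEquiv (Spec.stalkIso (CommRingCat.of R) x).symm.commRingCatIsoToRingEquiv
  have key : ∀ (U : Z.Etale) (v : U.left), IsRegularLocalRing (U.left.presheaf.stalk v) := by
    intro U v
    have hU : Etale (X := U.left) (Y := Z) U.hom := U.prop
    have h2 : Etale (X := U.left) ((U.hom : U.left ⟶ Z) ≫ f) := inferInstance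
    exact Groth.Agent.Ega4dB.SmoothReg.isRegularLocalRing_stalk_of_smooth ((U.hom : U.left ⟶ Z) ≫ f) v (hreg _)
  refine ⟨fun U => ⟨?_, fun u => ?_, fun u => ?_⟩⟩
  · have hU : Etale (X := U.left) (Y := Z) U.hom := U.prop
    have h2 : Etale (X := U.left) ((U.hom : U.left ⟶ Z) ≫ f) := inferInstance
    exact LocallyOfFiniteType.isLocallyNoetherian (X := U.left) ((U.hom : U.left ⟶ Z) ≫ f)
  · have := key U u
    exact (Groth.Agent.S2821.result (U.left.presheaf.stalk u)).1
  · have := key U u
    exact (Groth.Agent.S2821.result (U.left.presheaf.stalk u)).2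

theorem isNoetherian_of_open {R : Type u} [CommRing R] [IsNoetherianRing R] {Z : Scheme.{u}}
    (f : Z ⟶ Spec (CommRingCat.of R)) [IsOpenImmersion f] : AlgebraicGeometry.IsNoetherian Z := by
  have h1 : IsLocallyNoetherian Z := LocallyOfFiniteType.isLocallyNoetherian f
  have h2 : TopologicalSpace.NoetherianSpace (Spec (CommRingCat.of R)) :=
    inferInstanceAs (TopologicalSpace.NoetherianSpace (PrimeSpectrum R))
  have h3 : TopologicalSpace.NoetherianSpace Z := f.isOpenEmbedding.isInducing.noetherianSpace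
  exact { }

variable {A B : Type u} [CommRing A] [IsDomain A] [CommRing B] [IsDomain B] [Algebra A B] {G : Type} [Group G]
  [Fintype G] [MulSemiringAction G B] [SMulCommClass G A B] [Module.Flat A B] [Module.Finite A B] [FaithfulSMul A B]
  {X : Over (Spec (CommRingCat.of A))} (j : Yb A ⟶ X) [IsOpenImmersion X.hom]
  {T : Over (Spec (CommRingCat.of A))} [GrpObj T] [IsCommMonObj T] [IsAffine T.left] {N : Type} [AddCommGroup N]
  [DistribMulAction G N] (D : K965.Dict A B G T N)

instance : IsOpenImmersion (snd X (sp (algebraMap A B))).left :=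
  inferInstanceAs (IsOpenImmersion (pullback.snd X.hom (Spec.map (CommRingCat.ofHom (algebraMap A B)))))

variable (A B) in
theorem isField_L : IsField (FractionRing A ⊗[A] B) := by
  have := nontr (A := A) (B := B)
  refine ⟨⟨0, 1, zero_ne_one⟩, mul_comm, fun {z} hz => ?_⟩
  obtain ⟨a, b, ha, h⟩ := K964.FracB.exists_tmul (FractionRing A) z
  have ha' : IsUnit (algebraMap A (FractionRing A) a) := by
    rw [isUnit_iff_ne_zero, Ne, FaithfulSMul.algebraMap_eq_zero_iff]
    exact ha
  have hb : b ≠ 0 := by
    rintro rfl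
    rw [tmul_zero] at h
    apply hz
    exact (ha'.smul_eq_zero).1 h
  have h1 : IsUnit (algebraMap A (FractionRing A) a • z) := by
    rw [h]
    exact K964.FracB.isUnit_includeRight (A := A) (FractionRing A) b hb
  obtain ⟨w, hw⟩ := h1.exists_right_inv
  exact ⟨algebraMap A (FractionRing A) a • w, by rw [← hw, smul_mul_assoc, mul_smul_comm]⟩

theorem pic_Xc [UniqueFactorizationMonoid B] (X : Over (Spec (CommRingCat.of A))) [IsOpenImmersion X.hom] :
    ∀ L : (Xc A B X).left.Modules, PicF.IsInvertible L → Nonempty (L ≅ Coh.structureModule (Xc A B X).left) := by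
  have h : IsOpenImmersion (snd X (sp (algebraMap A B))).left := inferInstance
  exact pic_of_open (R := B) (snd X (sp (algebraMap A B))).left

variable (A B) in
theorem pic_Yc : ∀ L : (Yc A B).left.Modules, PicF.IsInvertible L →
    Nonempty (L ≅ Coh.structureModule (Yc A B).left) := by
  have h1 : IsDomain (FractionRing A ⊗[A] B) := (isField_L A B).isDomain
  have h2 : IsPrincipalIdealRing (FractionRing A ⊗[A] B) := (isField_L A B).isPrincipalIdealRing
  have h3 : IsOpenImmersion (𝟙 (Spec (CommRingCat.of (FractionRing A ⊗[A] B)))) := inferInstance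
  exact @pic_of_open (FractionRing A ⊗[A] B) _ h1 inferInstance (Spec (CommRingCat.of (FractionRing A ⊗[A] B)))
    (𝟙 (Spec (CommRingCat.of (FractionRing A ⊗[A] B)))) h3

/-- points of the covering over the generic point of `Spec B` factor through the generic point -/
theorem exists_factor_aux {κ : CommRingCat.{u}} (hκ : IsField κ) (z : Spec κ ⟶ (Xc A B X).left)
    (hz : ∀ p, ((snd X (sp (algebraMap A B))).left (z p)).asIdeal = ⊥) :
    ∃ k : Over.mk (z ≫ (Xc A B X).hom) ⟶ Yb A,
      (Over.homMk z rfl : Over.mk (z ≫ (Xc A B X).hom) ⟶ Xc A B X) ≫ fst X (sp (algebraMap A B)) = k ≫ j := by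
  obtain ⟨φ, hφ⟩ : ∃ φ : CommRingCat.of A ⟶ κ, Spec.map φ = z ≫ (Xc A B X).hom := ⟨_, Spec.map_preimage _⟩
  have : Nontrivial κ := hκ.nontrivial
  obtain ⟨p⟩ : Nonempty (Spec κ) := inferInstanceAs (Nonempty (PrimeSpectrum κ))
  have hne : ∀ a : A, a ≠ 0 → φ.hom a ≠ 0 := by
    intro a ha h0
    apply ha
    apply FaithfulSMul.algebraMap_injective A B
    rw [map_zero]
    have e1 : (Spec.map φ) p = (sp (algebraMap A B)).hom ((snd X (sp (algebraMap A B))).left (z p)) := by
      rw [hφ, ← Over.w (snd X (sp (algebraMap A B)))]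
      rfl
    have e2 : a ∈ ((Spec.map φ) p).asIdeal := by
      change φ.hom a ∈ p.asIdeal
      rw [h0]
      exact p.asIdeal.zero_mem
    rw [e1] at e2
    change algebraMap A B a ∈ ((snd X (sp (algebraMap A B))).left (z p)).asIdeal at e2
    rwa [hz, Ideal.mem_bot] at e2
  have hunit : ∀ y : nonZeroDivisors A, IsUnit (φ.hom y) := by
    intro y
    obtain ⟨w, hw⟩ := hκ.mul_inv_cancel (hne y (nonZeroDivisors.ne_zero y.2))
    exact IsUnit.of_mul_eq_one w hw
  let ψ : FractionRing A →+* κ := IsLocalization.lift (M := nonZeroDivisors A) hunit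
  have hψ : CommRingCat.ofHom (algebraMap A (FractionRing A)) ≫ CommRingCat.ofHom ψ = φ := by
    ext a
    exact IsLocalization.lift_eq (M := nonZeroDivisors A) hunit a
  refine ⟨Over.homMk (Spec.map (CommRingCat.ofHom ψ)) ?_, ?_⟩
  · change Spec.map (CommRingCat.ofHom ψ) ≫ Spec.map (CommRingCat.ofHom (algebraMap A (FractionRing A))) = _
    rw [← Spec.map_comp, hψ, hφ]
    rfl
  · ext1
    rw [← cancel_mono X.hom, Over.w, Over.w]

/-- the generic points of the covering lie over the generic point -/
theorem exists_factor (gp : Groth.Agent.CohtopA.GmDivK.Gen (Xc A B X).left) :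
    ∃ k : Over.mk ((Xc A B X).left.fromSpecResidueField gp.1 ≫ (Xc A B X).hom) ⟶ Yb A,
      (Over.homMk ((Xc A B X).left.fromSpecResidueField gp.1) rfl :
        Over.mk ((Xc A B X).left.fromSpecResidueField gp.1 ≫ (Xc A B X).hom) ⟶ Xc A B X) ≫ fst X (sp (algebraMap A B)) =
        k ≫ j := by
  refine exists_factor_aux j (Field.toIsField _) _ fun p => ?_
  have : Nonempty (Xc A B X).left := ⟨gp.1⟩
  obtain ⟨v, hv⟩ := mem_of_open (R := B) (snd X (sp (algebraMap A B))).left (⊥ : PrimeSpectrum B) rfl
  have h1 : v = gp.1 := by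
    apply Groth.Agent.CohtopA.GmDivGen.IsGen.eq_of_specializes gp.2
    rw [← (snd X (sp (algebraMap A B))).left.isOpenEmbedding.isInducing.specializes_iff, hv]
    exact (PrimeSpectrum.le_iff_specializes (⊥ : PrimeSpectrum B) _).1 bot_le
  have e2 : (Xc A B X).left.fromSpecResidueField gp.1 p = gp.1 :=
    Scheme.fromSpecResidueField_apply _ _
  rw [e2, ← h1, hv]
  rfl

/-- **Injectivity on `H²` for tori.** -/
theorem torus_H2 [UniqueFactorizationMonoid B] [IsRegularRing B] (h90 : H90P B G) (hG : IsGal A B G)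
    [Module.Finite ℤ N] [Module.Free ℤ N] (D : K965.Dict A B G T N)
    (y : (bigCoh fp (Spec (CommRingCat.of A))).H (CGrpSh.pts fp T) 2 X)
    (h2 : (bigCoh fp (Spec (CommRingCat.of A))).res j y = 0) : y = 0 := by
  obtain ⟨d⟩ := exists_dual hG
  have hX := H1_zero_of_pic d D (snd X (sp (algebraMap A B))) (pic_Xc (A := A) (B := B) X)
  have hY := H1_zero_of_pic d D (qY A B) (pic_Yc A B)
  refine H2_inj j h90 hG D hX hY y ?_ h2
  have h3 : Groth.Agent.CohtopA.GmDivGen.ELF (Xc A B X).left :=
    elf_of_regular (R := B) (snd X (sp (algebraMap A B))).left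
  have h4 : AlgebraicGeometry.IsNoetherian (Xc A B X).left :=
    isNoetherian_of_open (R := B) (snd X (sp (algebraMap A B))).left
  refine H2_zero_of_gen d D (snd X (sp (algebraMap A B))) _ fun gp => ?_
  obtain ⟨k, hk⟩ := exists_factor (A := A) (B := B) j gp
  rw [← (bigCoh fp (Spec (CommRingCat.of A))).res_comp, hk, (bigCoh fp (Spec (CommRingCat.of A))).res_comp, h2,
    map_zero]

end K574.FinTor
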