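import Groth.Agent.MultTori.K965.Dict

/-!
# Values of a group with a dictionary over algebras over the splitting ring

`B / A` Galois with group `G`, `s : B →+* R`.  The idempotents `eg` of a pair of maps `B → R`, the isomorphism
`R ⊗[A] B ≃ R ^ G`, and for `D : Dict A B G T N` the bijection `evr : T(R) ≃ Hom (N, Rˣ)`.
-/

set_option autoImplicit false
universe u
open TensorProduct

namespace K574.GalAlg

open K965.Gal

section alg

variable {A B : Type u} [CommRing A] [CommRing B] [Algebra A B] {G : Type} [Group G] [Fintype G]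
  [MulSemiringAction G B]

/-- chosen dual bases -/
structure Dual (A B : Type u) [CommRing A] [CommRing B] [Algebra A B] (G : Type) [Group G] [Fintype G]
    [MulSemiringAction G B] where
  n : ℕ
  x : Fin n → B
  y : Fin n → B
  one : ∑ i, x i * y i = 1
  ne : ∀ g : G, g ≠ 1 → ∑ i, x i * g • y i = 0
  tr : ∀ b : B, ∃ a, algebraMap A B a = ∑ g : G, g • b

lemma exists_dual [SMulCommClass G A B] (hG : IsGal A B G) : Nonempty (Dual A B G) := by
  obtain ⟨n, x, y, h1, h2⟩ := hG.dual
  refine ⟨⟨n, x, y, h1, h2, fun b => hG.inv _ fun g => ?_⟩⟩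
  rw [Finset.smul_sum]
  simp only [← mul_smul]
  exact Fintype.sum_bijective (g * ·) (Group.mulLeft_bijective g) _ _ fun _ => rfl

variable (d : Dual A B G)

namespace Dual

lemma ne' (g h : G) (hgh : g ≠ h) : ∑ i, g • d.x i * h • d.y i = 0 := by
  have h1 := d.ne (g⁻¹ * h) (fun h2 => hgh (by rw [← mul_one g, ← h2, mul_inv_cancel_left]))
  have h2 := congrArg (g • ·) h1
  simp only [Finset.smul_sum, smul_zero, smul_mul', mul_smul, smul_inv_smul] at h2
  exact h2

/-- `∑ tr (b xᵢ) yᵢ = b` -/
lemma sum_tr_y (b : B) : ∑ i, (∑ g : G, g • (b * d.x i)) * d.y i = b := by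
  classical
  simp only [Finset.sum_mul]
  rw [Finset.sum_comm]
  rw [Finset.sum_eq_single (1 : G)]
  · simp only [one_smul, mul_assoc]
    rw [← Finset.mul_sum, d.one, mul_one]
  · intro g _ hg
    simp only [smul_mul', mul_assoc]
    rw [← Finset.mul_sum]
    have h := d.ne' g 1 hg
    simp only [one_smul] at h
    rw [h, mul_zero]
  · intro h
    exact absurd (Finset.mem_univ _) h

/-- `∑ xᵢ tr (b yᵢ) = b` -/
lemma sum_x_tr (b : B) : ∑ i, d.x i * (∑ g : G, g • (b * d.y i)) = b := by
  classical
  simp only [Finset.mul_sum]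
  rw [Finset.sum_comm]
  rw [Finset.sum_eq_single (1 : G)]
  · simp only [one_smul]
    have : ∀ i, d.x i * (b * d.y i) = b * (d.x i * d.y i) := fun i => by ring
    simp only [this]
    rw [← Finset.mul_sum, d.one, mul_one]
  · intro g _ hg
    have : ∀ i, d.x i * g • (b * d.y i) = g • b * (d.x i * g • d.y i) := fun i => by rw [smul_mul']; ring
    simp only [this]
    rw [← Finset.mul_sum, d.ne g hg, mul_zero]
  · intro h
    exact absurd (Finset.mem_univ _) h

variable {R : Type*} [CommRing R]

/-- the idempotent of the locus `β = α ∘ g` -/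
def eg (α β : B →+* R) (g : G) : R := ∑ i, α (g • d.x i) * β (d.y i)

include d in
lemma tr_comm (α β : B →+* R) (h : α.comp (algebraMap A B) = β.comp (algebraMap A B)) (b : B) :
    α (∑ g : G, g • b) = β (∑ g : G, g • b) := by
  obtain ⟨a, ha⟩ := d.tr b
  rw [← ha]
  exact RingHom.congr_fun h a

lemma sum_eg (α β : B →+* R) (h : α.comp (algebraMap A B) = β.comp (algebraMap A B)) : ∑ g, d.eg α β g = 1 := by
  simp only [eg]
  rw [Finset.sum_comm]
  simp only [← Finset.sum_mul, ← map_sum]
  simp only [d.tr_comm α β h, ← map_mul, ← map_sum]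
  have := d.sum_tr_y 1
  simp only [one_mul] at this
  rw [this, map_one]

lemma eg_mul (α β : B →+* R) (h : α.comp (algebraMap A B) = β.comp (algebraMap A B)) (g : G) (z : B) :
    d.eg α β g * β z = d.eg α β g * α (g • z) := by
  have h1 : ∀ i, β (d.y i) * β z = ∑ j, α (∑ k : G, k • (d.y i * z * d.x j)) * β (d.y j) := by
    intro i
    rw [← map_mul, ← d.sum_tr_y (d.y i * z), map_sum]
    refine Finset.sum_congr rfl fun j _ => ?_
    rw [map_mul, d.tr_comm α β h]
    rw [d.sum_tr_y (d.y i * z)]
  rw [eg, Finset.sum_mul]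
  simp only [mul_assoc, h1, Finset.mul_sum]
  rw [Finset.sum_comm, Finset.sum_mul]
  refine Finset.sum_congr rfl fun j _ => ?_
  have h2 : ∀ i, α (g • d.x i) * (α (∑ k : G, k • (d.y i * (z * d.x j))) * β (d.y j)) =
      α (g • (d.x i * ∑ k : G, k • (z * d.x j * d.y i))) * β (d.y j) := by
    intro i
    rw [← mul_assoc, ← map_mul, smul_mul']
    congr 3
    rw [Finset.smul_sum]
    simp only [← mul_smul]
    have h3 : ∀ k : G, k • (d.y i * (z * d.x j)) = k • (z * d.x j * d.y i) := fun k => by congr 1; ring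
    simp only [h3]
    exact (Fintype.sum_bijective (g * ·) (Group.mulLeft_bijective g) _ _ fun _ => rfl).symm
  simp only [h2]
  rw [← Finset.sum_mul, ← map_sum, ← Finset.smul_sum, d.sum_x_tr (z * d.x j), smul_mul', map_mul]
  ring

include d in
lemma eq_zero_of_eq (α : B →+* R) (g h : G) (hgh : g ≠ h) (e : ∀ b : B, α (g • b) = α (h • b)) : (1 : R) = 0 := by
  have h1 := congrArg α (d.ne' g h hgh)
  rw [map_zero, map_sum] at h1
  have h2 : ∀ i, α (g • d.x i * h • d.y i) = α (g • (d.x i * d.y i)) := fun i => by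
    rw [map_mul, ← e (d.y i), ← map_mul, ← smul_mul']
  rw [Finset.sum_congr rfl fun i _ => h2 i, ← map_sum, ← Finset.smul_sum, d.one, smul_one, map_one] at h1
  exact h1

end Dual

end alg

end K574.GalAlg
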