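import Groth.Agent.MultTori.K574.GalAlg

/-!
# Characters of points over algebras over the splitting ring

For `D : K965.Dict A B G T N` and an `A`-algebra map `s : B →ₐ[A] R` the bijection `evr : T(R) ≃ Hom (N, Rˣ)`.
-/

set_option autoImplicit false
universe u
open TensorProduct CategoryTheory AlgebraicGeometry

namespace K574.GalEv

open K965.Gal K965.Pts K574.GalAlg

variable {A B : Type u} [CommRing A] [CommRing B] [Algebra A B] {G : Type} [Group G] [Fintype G]
  [MulSemiringAction G B] [SMulCommClass G A B]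

section ms

variable {R : Type u} [CommRing R] [Algebra A R]

/-- multiplication against `s` -/
noncomputable def ms (s : B →ₐ[A] R) : R ⊗[A] B →ₐ[R] R :=
  Algebra.TensorProduct.lift (AlgHom.id R R) s (fun _ _ => Commute.all _ _)

omit [SMulCommClass G A B] [MulSemiringAction G B] [Group G] [Fintype G] in
@[simp] lemma ms_tmul (s : B →ₐ[A] R) (r : R) (b : B) : ms s (r ⊗ₜ b) = r * s b := by
  simp [ms]

/-- the translate of `s` -/
noncomputable def tr (s : B →ₐ[A] R) (g : G) : B →ₐ[A] R := s.comp (MulSemiringAction.toAlgHom A B g)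

omit [Fintype G] in
@[simp] lemma tr_apply (s : B →ₐ[A] R) (g : G) (b : B) : tr s g b = s (g • b) := rfl

omit [Fintype G] in
lemma ms_tr (s : B →ₐ[A] R) (g : G) (z : R ⊗[A] B) : ms (tr s g) z = ms s (act A B R g z) := by
  induction z using TensorProduct.induction_on with
  | zero => simp
  | tmul x y => simp
  | add x y hx hy => rw [map_add, map_add, map_add, hx, hy]

omit [Fintype G] in
lemma tr_tr (s : B →ₐ[A] R) (g h : G) : tr (tr s g) h = tr s (g * h) := by
  ext b
  simp [mul_smul]

/-- reconstruction of an element from its images under all `ms (tr s g)` -/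
lemma recon (d : Dual A B G) (s : B →ₐ[A] R) (z : R ⊗[A] B) :
    ∑ g : G, ∑ i, (ms (tr s g) z * s (g • d.x i)) ⊗ₜ[A] d.y i = z := by
  induction z using TensorProduct.induction_on with
  | zero => simp
  | tmul r b =>
    rw [Finset.sum_comm]
    simp only [ms_tmul, tr_apply, mul_assoc, ← map_mul, ← smul_mul']
    have h1 : ∀ i, ∑ g : G, (r * s (g • (b * d.x i))) ⊗ₜ[A] d.y i =
        r ⊗ₜ ((∑ g : G, g • (b * d.x i)) * d.y i) := by
      intro i
      rw [← TensorProduct.sum_tmul, ← Finset.mul_sum, ← map_sum]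
      obtain ⟨a, ha⟩ := d.tr (b * d.x i)
      rw [← ha, AlgHom.commutes, mul_comm, ← Algebra.smul_def, ← Algebra.smul_def, TensorProduct.smul_tmul]
    simp only [h1, ← TensorProduct.tmul_sum, d.sum_tr_y]
  | add x y hx hy =>
    simp only [map_add, add_mul, TensorProduct.add_tmul, Finset.sum_add_distrib, hx, hy]

lemma ext_ms (d : Dual A B G) (s : B →ₐ[A] R) (z w : R ⊗[A] B) (h : ∀ g : G, ms (tr s g) z = ms (tr s g) w) :
    z = w := by
  rw [← recon d s z, ← recon d s w]
  simp only [h]

/-- the element with given images -/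
noncomputable def mk (d : Dual A B G) (s : B →ₐ[A] R) (f : G → R) : R ⊗[A] B :=
  ∑ g : G, ∑ i, (f g * s (g • d.x i)) ⊗ₜ[A] d.y i

lemma ms_mk (d : Dual A B G) (s : B →ₐ[A] R) (f : G → R) (h : G) : ms (tr s h) (mk d s f) = f h := by
  classical
  rw [mk]
  simp only [map_sum, ms_tmul, tr_apply, mul_assoc, ← map_mul]
  simp only [← Finset.mul_sum, ← map_sum]
  rw [Finset.sum_eq_single h]
  · rw [← Finset.sum_congr rfl fun i _ => smul_mul' h (d.x i) (d.y i), ← Finset.smul_sum, d.one, smul_one, map_one,
      mul_one]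
  · intro g _ hg
    rw [d.ne' g h hg, map_zero, mul_zero]
  · intro hh
    exact absurd (Finset.mem_univ _) hh

end ms

variable {T : Over (Spec (CommRingCat.of A))} [GrpObj T] {N : Type} [AddCommGroup N] [DistribMulAction G N]
  (D : K965.Dict A B G T N)

/-- the character of a point over a `B`-algebra -/
noncomputable def evr {R : Type u} [CommRing R] [Algebra A R] (s : B →ₐ[A] R) (x : sp (algebraMap A R) ⟶ T) :
    N →+ Additive Rˣ :=
  (um (ms s : R ⊗[A] B →+* R)).comp (D.ch R x)

section

variable {R : Type u} [CommRing R] [Algebra A R] (s : B →ₐ[A] R)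

omit [Fintype G] in
lemma val_evr (x : sp (algebraMap A R) ⟶ T) (n : N) :
    ((evr D s x n).toMul : R) = ms s ((D.ch R x n).toMul : (R ⊗[A] B)ˣ) := rfl

open MonoidalCategory CartesianMonoidalCategory MonObj in
omit [Fintype G] in
lemma evr_mul (x y : sp (algebraMap A R) ⟶ T) : evr D s (x * y) = evr D s x + evr D s y := by
  rw [evr, D.ch_mul]
  exact AddMonoidHom.comp_add _ _ _

omit [Fintype G] in
lemma evr_tr (g : G) (x : sp (algebraMap A R) ⟶ T) (n : N) : evr D (tr s g) x n = evr D s x (g • n) := by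
  apply addUnits_ext
  rw [val_evr, val_evr, ms_tr, D.ch_smul]

omit [Fintype G] in
lemma evr_nat {R' : Type u} [CommRing R'] [Algebra A R'] (ψ : R →ₐ[A] R') (x : sp (algebraMap A R) ⟶ T) :
    evr D (ψ.comp s) (mp (ψ : R →+* R') ψ.comp_algebraMap ≫ x) = (um (ψ : R →+* R')).comp (evr D s x) := by
  ext1 n
  apply addUnits_ext
  rw [AddMonoidHom.comp_apply, val_um, val_evr, val_evr, D.ch_nat]
  change ms (ψ.comp s) (Algebra.TensorProduct.map ψ (AlgHom.id A B) _) = ψ _
  generalize ((D.ch R x n).toMul : R ⊗[A] B) = z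
  induction z using TensorProduct.induction_on with
  | zero => simp
  | tmul x y => simp
  | add x y hx hy => simp only [map_add, hx, hy]

theorem evr_injective (d : Dual A B G) : Function.Injective (evr D s) := by
  intro x y h
  apply D.ch_inj
  ext1 n
  apply addUnits_ext
  apply ext_ms d s
  intro g
  have h1 := DFunLike.congr_fun h (g • n)
  rw [← evr_tr, ← evr_tr] at h1
  exact congrArg (fun z : Additive Rˣ => (z.toMul : R)) h1

theorem evr_surjective (d : Dual A B G) : Function.Surjective (evr D s) := by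
  intro χ
  let z : N → R ⊗[A] B := fun n => mk d s (fun g => ((χ (g • n)).toMul : R))
  have hz : ∀ (g : G) (n : N), ms (tr s g) (z n) = ((χ (g • n)).toMul : R) := fun g n => ms_mk d s _ g
  have hz0 : z 0 = 1 := by
    refine ext_ms d s _ _ fun g => ?_
    rw [hz, smul_zero, map_zero, map_one]
    rfl
  have hza : ∀ n n', z (n + n') = z n * z n' := by
    intro n n'
    refine ext_ms d s _ _ fun g => ?_
    rw [hz, smul_add, map_add, map_mul, hz, hz]
    rfl
  have hzs : ∀ (g : G) (n : N), z (g • n) = act A B R g (z n) := by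
    intro g n
    refine ext_ms d s _ _ fun h => ?_
    rw [hz, ← ms_tr, tr_tr, hz, mul_smul]
  let ζ : N →+ Additive (R ⊗[A] B)ˣ :=
    MonoidHom.toAdditiveRight (MonoidHom.toHomUnits
      { toFun := fun n : Multiplicative N => z (Multiplicative.toAdd n)
        map_one' := hz0
        map_mul' := fun n n' => hza _ _ })
  obtain ⟨x, hx⟩ := D.ch_surj R ζ (fun g n => hzs g n)
  refine ⟨x, ?_⟩
  ext1 n
  apply addUnits_ext
  rw [val_evr, hx]
  have h1 := hz 1 n
  rw [one_smul] at h1
  rw [← h1]
  change ms s (z n) = _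
  congr 1
  ext b
  simp

end

end K574.GalEv
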