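import Groth.Agent.MultTori.K574.GalEv

/-!
# Characters of points over schemes lying over the splitting cover

`evW D b : (W ⟶ T) → Hom (N, Γ(W)ˣ)` for `b : W ⟶ Spec B`.
-/

set_option autoImplicit false
universe u
open TensorProduct CategoryTheory AlgebraicGeometry

namespace K574.GalPts

open K965.Gal K965.Pts K574.GalAlg K574.GalEv

variable {A : Type u} [CommRing A]

/-- the algebra structure on global functions -/
noncomputable instance algW (W : Over (Spec (CommRingCat.of A))) : Algebra A Γ(W.left, ⊤) :=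
  ((Scheme.ΓSpecIso (CommRingCat.of A)).inv ≫ W.hom.appTop).hom.toAlgebra

lemma algebraMap_eq (W : Over (Spec (CommRingCat.of A))) :
    algebraMap A Γ(W.left, ⊤) = ((Scheme.ΓSpecIso (CommRingCat.of A)).inv ≫ W.hom.appTop).hom := rfl

/-- pullback of global functions -/
noncomputable def pf {W W' : Over (Spec (CommRingCat.of A))} (k : W' ⟶ W) :
    Γ(W.left, ⊤) →ₐ[A] Γ(W'.left, ⊤) where
  toRingHom := k.left.appTop.hom
  commutes' a := by
    change ((Scheme.ΓSpecIso (CommRingCat.of A)).inv ≫ W.hom.appTop ≫ k.left.appTop).hom a = _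
    rw [← Scheme.Hom.comp_appTop, Over.w k]
    rfl

@[simp] lemma pf_apply {W W' : Over (Spec (CommRingCat.of A))} (k : W' ⟶ W) (z : Γ(W.left, ⊤)) :
    pf k z = k.left.appTop.hom z := rfl

lemma pf_comp {W W' W'' : Over (Spec (CommRingCat.of A))} (k : W' ⟶ W) (k' : W'' ⟶ W') :
    pf (k' ≫ k) = (pf k').comp (pf k) := by
  ext z
  change (k'.left ≫ k.left).appTop.hom z = _
  rw [Scheme.Hom.comp_appTop]
  rfl

lemma pf_id (W : Over (Spec (CommRingCat.of A))) : pf (𝟙 W) = AlgHom.id A _ := by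
  ext z
  change (𝟙 W.left : W.left ⟶ W.left).appTop.hom z = _
  rw [Scheme.Hom.id_appTop]
  rfl

instance isAffine_sp {B : Type u} [CommRing B] (φ : A →+* B) : IsAffine (sp φ).left :=
  inferInstanceAs (IsAffine (Spec (CommRingCat.of B)))

lemma tos_aux {X : Scheme.{u}} (f : X ⟶ Spec (CommRingCat.of A)) :
    X.toSpecΓ ≫ Spec.map ((Scheme.ΓSpecIso (CommRingCat.of A)).inv ≫ f.appTop) = f := by
  rw [Spec.map_comp, ← Scheme.toSpecΓ_naturality_assoc, ← SpecMap_ΓSpecIso_hom, ← Spec.map_comp, Iso.inv_hom_id,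
    Spec.map_id, Category.comp_id]

/-- the canonical morphism to the spectrum of global functions -/
noncomputable def tos (W : Over (Spec (CommRingCat.of A))) : W ⟶ sp (algebraMap A Γ(W.left, ⊤)) :=
  Over.homMk W.left.toSpecΓ (tos_aux W.hom)

lemma tos_nat {W W' : Over (Spec (CommRingCat.of A))} (k : W' ⟶ W) :
    tos W' ≫ mp (pf k : Γ(W.left, ⊤) →+* Γ(W'.left, ⊤)) (pf k).comp_algebraMap = k ≫ tos W := by
  ext1
  exact (Scheme.toSpecΓ_naturality k.left).symm

/-- extension to the spectrum of global functions -/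
noncomputable def ex {W U : Over (Spec (CommRingCat.of A))} [IsAffine U.left] (f : W ⟶ U) :
    sp (algebraMap A Γ(W.left, ⊤)) ⟶ U :=
  Over.homMk (Spec.map f.left.appTop ≫ U.left.isoSpec.inv) (by
    change _ = Spec.map ((Scheme.ΓSpecIso (CommRingCat.of A)).inv ≫ W.hom.appTop)
    rw [← Over.w f, Scheme.Hom.comp_appTop, ← Category.assoc, Spec.map_comp, Category.assoc]
    congr 1
    rw [Iso.inv_comp_eq, Scheme.isoSpec_hom]
    exact (tos_aux U.hom).symm)

lemma tos_ex {W U : Over (Spec (CommRingCat.of A))} [IsAffine U.left] (f : W ⟶ U) : tos W ≫ ex f = f := by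
  ext1
  change W.left.toSpecΓ ≫ Spec.map f.left.appTop ≫ U.left.isoSpec.inv = f.left
  rw [← Scheme.toSpecΓ_naturality_assoc, ← Scheme.isoSpec_hom, Iso.hom_inv_id, Category.comp_id]

lemma cancel_tos {W U : Over (Spec (CommRingCat.of A))} [IsAffine U.left] {g g' : sp (algebraMap A Γ(W.left, ⊤)) ⟶ U}
    (h : tos W ≫ g = tos W ≫ g') : g = g' := by
  ext1
  apply ext_of_isAffine
  have h1 := congrArg (fun z => z.left.appTop) h
  change (W.left.toSpecΓ ≫ g.left).appTop = (W.left.toSpecΓ ≫ g'.left).appTop at h1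
  rw [Scheme.Hom.comp_appTop, Scheme.Hom.comp_appTop, Scheme.toSpecΓ_appTop] at h1
  exact (cancel_mono _).1 h1

lemma ex_tos {W U : Over (Spec (CommRingCat.of A))} [IsAffine U.left] (g : sp (algebraMap A Γ(W.left, ⊤)) ⟶ U) :
    ex (tos W ≫ g) = g := cancel_tos (tos_ex _)

lemma ex_nat {W W' U : Over (Spec (CommRingCat.of A))} [IsAffine U.left] (k : W' ⟶ W) (f : W ⟶ U) :
    ex (k ≫ f) = mp (pf k : Γ(W.left, ⊤) →+* Γ(W'.left, ⊤)) (pf k).comp_algebraMap ≫ ex f := by
  apply cancel_tos
  rw [tos_ex, ← Category.assoc, tos_nat, Category.assoc, tos_ex]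

variable {B : Type u} [CommRing B] [Algebra A B]

/-- the algebra map defined by a morphism to `Spec B` -/
noncomputable def sb {W : Over (Spec (CommRingCat.of A))} (b : W ⟶ sp (algebraMap A B)) : B →ₐ[A] Γ(W.left, ⊤) where
  toRingHom := ((Scheme.ΓSpecIso (CommRingCat.of B)).inv ≫ b.left.appTop).hom
  commutes' a := by
    have h1 : CommRingCat.ofHom (algebraMap A B) ≫ (Scheme.ΓSpecIso (CommRingCat.of B)).inv ≫ b.left.appTop =
        (Scheme.ΓSpecIso (CommRingCat.of A)).inv ≫ W.hom.appTop := by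
      rw [← Over.w b, Scheme.Hom.comp_appTop]
      exact Scheme.ΓSpecIso_inv_naturality_assoc _ _
    exact congr($(h1).hom a)

lemma sb_comp {W W' : Over (Spec (CommRingCat.of A))} (k : W' ⟶ W) (b : W ⟶ sp (algebraMap A B)) :
    sb (k ≫ b) = (pf k).comp (sb b) := by
  ext z
  change ((Scheme.ΓSpecIso (CommRingCat.of B)).inv ≫ (k.left ≫ b.left).appTop).hom z = _
  rw [Scheme.Hom.comp_appTop]
  rfl

lemma sb_injective {W : Over (Spec (CommRingCat.of A))} {b b' : W ⟶ sp (algebraMap A B)} (h : sb b = sb b') :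
    b = b' := by
  ext1
  apply ext_of_isAffine
  have h1 : (Scheme.ΓSpecIso (CommRingCat.of B)).inv ≫ b.left.appTop =
      (Scheme.ΓSpecIso (CommRingCat.of B)).inv ≫ b'.left.appTop := by
    ext z
    exact DFunLike.congr_fun h z
  exact (cancel_epi _).1 h1

variable {G : Type} [Group G] [MulSemiringAction G B] [SMulCommClass G A B]

/-- the automorphism of `Spec B` given by `g` -/
noncomputable def tau (A B : Type u) [CommRing A] [CommRing B] [Algebra A B] {G : Type} [Group G]
    [MulSemiringAction G B] [SMulCommClass G A B] (g : G) : sp (algebraMap A B) ⟶ sp (algebraMap A B) :=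
  mp ((MulSemiringAction.toAlgHom A B g : B →ₐ[A] B) : B →+* B) (AlgHom.comp_algebraMap _)

lemma sb_tau {W : Over (Spec (CommRingCat.of A))} (b : W ⟶ sp (algebraMap A B)) (g : G) :
    sb (b ≫ tau A B g) = tr (sb b) g := by
  ext z
  change ((Scheme.ΓSpecIso (CommRingCat.of B)).inv ≫ (b.left ≫ Spec.map (CommRingCat.ofHom
    ((MulSemiringAction.toAlgHom A B g : B →ₐ[A] B) : B →+* B))).appTop).hom z = _
  rw [Scheme.Hom.comp_appTop, ← Scheme.ΓSpecIso_inv_naturality_assoc]
  rfl

lemma tau_mul (g h : G) : tau A B (g * h) = tau A B g ≫ tau A B h := by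
  apply sb_injective
  rw [sb_tau, ← Category.id_comp (tau A B (g * h)), sb_tau, ← Category.id_comp (tau A B g), sb_tau, tr_tr]

lemma tau_one : tau A B (1 : G) = 𝟙 _ := by
  apply sb_injective
  rw [← Category.id_comp (tau A B (1 : G)), sb_tau]
  ext b
  simp

variable [Fintype G] {T : Over (Spec (CommRingCat.of A))} [GrpObj T] [IsAffine T.left] {N : Type} [AddCommGroup N]
  [DistribMulAction G N] (D : K965.Dict A B G T N)

/-- the character of a point of `T` over a scheme over `Spec B` -/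
noncomputable def evW {W : Over (Spec (CommRingCat.of A))} (b : W ⟶ sp (algebraMap A B)) (x : W ⟶ T) :
    N →+ Additive Γ(W.left, ⊤)ˣ := evr D (sb b) (ex x)

section

variable {W : Over (Spec (CommRingCat.of A))} (b : W ⟶ sp (algebraMap A B))

open MonoidalCategory CartesianMonoidalCategory MonObj in
omit [Fintype G] in
lemma evW_mul (x y : W ⟶ T) : evW D b (x * y) = evW D b x + evW D b y := by
  rw [evW, evW, evW, ← evr_mul]
  congr 1
  apply cancel_tos
  rw [tos_ex, MonObj.comp_mul, tos_ex, tos_ex]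

omit [Fintype G] in
lemma evW_tau (g : G) (x : W ⟶ T) (n : N) : evW D (b ≫ tau A B g) x n = evW D b x (g • n) := by
  rw [evW, sb_tau, evr_tr]
  rfl

omit [Fintype G] in
lemma evW_nat {W' : Over (Spec (CommRingCat.of A))} (k : W' ⟶ W) (x : W ⟶ T) :
    evW D (k ≫ b) (k ≫ x) = (um (pf k : Γ(W.left, ⊤) →+* Γ(W'.left, ⊤))).comp (evW D b x) := by
  rw [evW, sb_comp, ex_nat, evr_nat]
  rfl

theorem evW_injective (d : Dual A B G) : Function.Injective (evW D b) := by
  intro x y h
  have := evr_injective D (sb b) d h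
  rw [← tos_ex x, this, tos_ex]

theorem evW_surjective (d : Dual A B G) : Function.Surjective (evW D b) := by
  intro χ
  obtain ⟨y, hy⟩ := evr_surjective D (sb b) d χ
  refine ⟨tos W ≫ y, ?_⟩
  rw [evW, ex_tos, hy]

end

end K574.GalPts
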