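import Groth.Agent.MultTori.K964.DivSec

/-!
# Equivariant retractions onto units of rings of functions on open subschemes

`𝔅` factorial with an action of `G`, `𝔅 → R → L` with `L` the fraction field and `R` the ring of functions of a stable
open subscheme of `Spec 𝔅`.  There is an equivariant retraction `Lˣ → Rˣ`.
-/

set_option autoImplicit false
universe u v w w'

namespace K574.RetrU

open K964.CharExt K964.DivSec

lemma prod_rel {𝔅 : Type u} [CommRing 𝔅] [IsDomain 𝔅] {L : Type w} [CommRing L] (j : 𝔅 →+* L)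
    (hu : ∀ b, b ≠ 0 → IsUnit (j b)) (γ : Pr 𝔅 → 𝔅) (hγ : ∀ q, q.1 = Ideal.span {γ q}) (m : Pr 𝔅 →₀ ℤ) :
    vl (Phi j hu γ hγ (0, m)) * j (∏ q ∈ m.support, γ q ^ (-(m q)).toNat) =
      j (∏ q ∈ m.support, γ q ^ (m q).toNat) := by
  classical
  have h1 : Phi j hu γ hγ (0, m) = ∑ q ∈ m.support, (m q) • ul j hu (γ q) (gen_ne_zero γ hγ q) := by
    rw [Phi]
    simp only [AddMonoidHom.coprod_apply, map_zero, zero_add]
    rw [Finsupp.liftAddHom_apply, Finsupp.sum_of_support_subset _ subset_rfl _ (by simp)]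
    simp
  have h2 : ∀ q, (m q) • ul j hu (γ q) (gen_ne_zero γ hγ q) =
      (m q).toNat • ul j hu (γ q) (gen_ne_zero γ hγ q) - (-(m q)).toNat • ul j hu (γ q) (gen_ne_zero γ hγ q) := by
    intro q
    rw [← natCast_zsmul, ← natCast_zsmul, ← sub_smul]
    congr 1
    omega
  have hval : ∀ (k : Pr 𝔅 → ℕ), vl (∑ q ∈ m.support, k q • ul j hu (γ q) (gen_ne_zero γ hγ q)) =
      j (∏ q ∈ m.support, γ q ^ k q) := by
    intro k
    rw [map_prod, vl_sum]
    refine Finset.prod_congr rfl fun q _ => ?_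
    rw [vl_nsmul, vl_ul, map_pow]
  rw [h1, ← hval, ← vl_add]
  simp only [h2]
  rw [Finset.sum_sub_distrib, sub_add_cancel, hval]

variable {𝔅 : Type u} [CommRing 𝔅] [IsDomain 𝔅] [UniqueFactorizationMonoid 𝔅] {G : Type v} [Group G]
  [MulSemiringAction G 𝔅] {R : Type w} [CommRing R] {L : Type w'} [CommRing L]

theorem exists_retraction (h90 : H90P 𝔅 G) (j₁ : 𝔅 →+* R) (j₂ : R →+* L) (hj₁ : Function.Injective j₁)
    (hj₂ : Function.Injective j₂)
    (hfrac : ∀ z : Lˣ, ∃ b b' : 𝔅, b ≠ 0 ∧ b' ≠ 0 ∧ (z : L) * j₂ (j₁ b') = j₂ (j₁ b))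
    (hu : ∀ b, b ≠ 0 → IsUnit (j₂ (j₁ b))) (σR : G → R →+* R) (σL : G → L →+* L)
    (hσR : ∀ g b, σR g (j₁ b) = j₁ (g • b)) (hσL : ∀ g x, σL g (j₂ x) = j₂ (σR g x))
    (hd : ∀ q : Pr 𝔅, (∀ b, q.1 = Ideal.span {b} → IsUnit (j₁ b)) ∨
      ∃ (κ : Type w) (_ : Field κ) (φ : R →+* κ), ∀ c : 𝔅, φ (j₁ c) = 0 ↔ c ∈ q.1) :
    ∃ r : Additive Lˣ →+ Additive Rˣ, (∀ x, r (um j₂ x) = x) ∧ ∀ g z, r (um (σL g) z) = um (σR g) (r z) := by
  classical
  obtain ⟨γ, hγ, hγG⟩ := exists_gen h90
  let j : 𝔅 →+* L := j₂.comp j₁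
  have hj : Function.Injective j := hj₂.comp hj₁
  have hinj := Phi_injective j hu γ hγ hj
  let e : Additive 𝔅ˣ × (Pr 𝔅 →₀ ℤ) ≃+ Additive Lˣ :=
    AddEquiv.ofBijective (Phi j hu γ hγ) ⟨hinj, Phi_surjective j hu γ hγ hfrac⟩
  have he : ∀ x, e x = Phi j hu γ hγ x := fun x => rfl
  let wt : Pr 𝔅 → Additive Rˣ := fun q => if h : IsUnit (j₁ (γ q)) then Additive.ofMul h.unit else 0
  have hwt : ∀ q, IsUnit (j₁ (γ q)) → vl (wt q) = j₁ (γ q) := fun q h => by
    simp only [wt, dif_pos h]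
    rfl
  have hwt' : ∀ q, ¬ IsUnit (j₁ (γ q)) → wt q = 0 := fun q h => by
    simp only [wt, dif_neg h]
  have hV : ∀ (g : G) (q : Pr 𝔅), IsUnit (j₁ (γ q)) → IsUnit (j₁ (γ (g • q))) := by
    intro g q h
    rw [hγG, ← hσR]
    exact h.map (σR g)
  have hwG : ∀ (g : G) (q : Pr 𝔅), wt (g • q) = um (σR g) (wt q) := by
    intro g q
    by_cases h : IsUnit (j₁ (γ q))
    · apply addUnits_ext
      rw [vl_um, hwt q h, hwt _ (hV g q h), hγG, hσR]
    · rw [hwt' q h, map_zero, hwt' (g • q)]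
      intro h'
      apply h
      have := hV g⁻¹ _ h'
      rwa [inv_smul_smul] at this
  let ψ : Additive 𝔅ˣ × (Pr 𝔅 →₀ ℤ) →+ Additive Rˣ :=
    AddMonoidHom.coprod (um j₁) (Finsupp.liftAddHom (fun q => zmultiplesHom _ (wt q)))
  have hψ : ∀ u m, ψ (u, m) = um j₁ u + m.sum fun q k => k • wt q := by
    intro u m
    simp [ψ]
    rfl
  have hψs : ∀ q k, ψ (0, Finsupp.single q k) = k • wt q := by
    intro q k
    simp [ψ]
  have hψa : ∀ u m, ψ (u, m) = um j₁ u + ψ (0, m) := by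
    intro u m
    simp [ψ]
  refine ⟨ψ.comp e.symm.toAddMonoidHom, fun x => ?_, fun g z => ?_⟩
  · change ψ (e.symm (um j₂ x)) = x
    obtain ⟨⟨u, m⟩, hum⟩ := e.surjective (um j₂ x)
    rw [← hum, AddEquiv.symm_apply_apply]
    rw [he] at hum
    -- the support of `m`
    have hsupp : ∀ q, m q ≠ 0 → IsUnit (j₁ (γ q)) := by
      intro q hq
      rcases hd q with h | ⟨κ, _, φ, hφ⟩
      · exact h _ (hγ q)
      · exfalso
        have h1 := prod_rel j hu γ hγ m
        have h2 : vl x * j₁ (∏ q ∈ m.support, γ q ^ (-(m q)).toNat) =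
            j₁ (vl u) * j₁ (∏ q ∈ m.support, γ q ^ (m q).toNat) := by
          apply hj₂
          have h3 := congrArg vl hum
          rw [Phi_add, vl_add, vl_um, vl_um] at h3
          rw [map_mul, ← h3, map_mul]
          change _ * _ * j _ = j (vl u) * j _
          rw [← h1]
          ring
        have hne : φ (vl x) ≠ 0 := by
          have : IsUnit (φ (vl x)) := (Units.isUnit x.toMul).map φ
          exact this.ne_zero
        have hne' : φ (j₁ (vl u)) ≠ 0 := by
          have : IsUnit (φ (j₁ (vl u))) := ((Units.isUnit u.toMul).map j₁).map φ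
          exact this.ne_zero
        have hmem : q ∈ m.support := Finsupp.mem_support_iff.2 hq
        have hdvd : ∀ k : Pr 𝔅 → ℕ, k q ≠ 0 → (∏ q ∈ m.support, γ q ^ k q) ∈ q.1 := fun k hk => by
          have : γ q ∣ ∏ q ∈ m.support, γ q ^ k q :=
            (dvd_pow_self _ hk).trans (Finset.dvd_prod_of_mem (fun q => γ q ^ k q) hmem)
          have hh := Ideal.mem_span_singleton.2 this
          rwa [← hγ] at hh
        have hnd : ∀ k : Pr 𝔅 → ℕ, k q = 0 → (∏ q ∈ m.support, γ q ^ k q) ∉ q.1 := fun k hk hh => by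
          rw [hγ, Ideal.mem_span_singleton] at hh
          exact not_dvd_prod γ hγ q m.support k hk hh
        have h3 := congrArg φ h2
        rw [map_mul, map_mul] at h3
        rcases lt_or_gt_of_ne hq with hlt | hgt
        · have h4 := (hφ _).2 (hdvd (fun q => (-(m q)).toNat) (by omega))
          rw [h4, mul_zero] at h3
          have h5 := (mul_eq_zero.1 h3.symm).resolve_left hne'
          exact hnd (fun q => (m q).toNat) (by omega) ((hφ _).1 h5)
        · have h4 := (hφ _).2 (hdvd (fun q => (m q).toNat) (by omega))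
          rw [h4, mul_zero] at h3
          have h5 := (mul_eq_zero.1 h3).resolve_left hne
          exact hnd (fun q => (-(m q)).toNat) (by omega) ((hφ _).1 h5)
    apply addUnits_ext
    apply hj₂
    rw [← vl_um j₂ x, ← hum, ← vl_um j₂]
    congr 1
    rw [hψ, map_add]
    rw [Phi_add]
    congr 1
    rw [Finsupp.sum, map_sum, Phi]
    simp only [AddMonoidHom.coprod_apply, map_zero, zero_add]
    rw [Finsupp.liftAddHom_apply, Finsupp.sum]
    refine Finset.sum_congr rfl fun q hq => ?_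
    rw [map_zsmul, zmultiplesHom_apply]
    congr 1
    apply addUnits_ext
    rw [vl_um, hwt q (hsupp q (Finsupp.mem_support_iff.1 hq)), vl_ul]
    rfl
  · obtain ⟨⟨u, m⟩, rfl⟩ := e.surjective z
    change ψ (e.symm (um (σL g) (e (u, m)))) = um (σR g) (ψ (e.symm (e (u, m))))
    have hσ : ∀ g b, σL g (j b) = j (g • b) := fun g b => by
      change σL g (j₂ (j₁ b)) = j₂ (j₁ (g • b))
      rw [hσL, hσR]
    rw [he, Phi_equivariant j hu γ hγ σL hσ hγG, ← he, AddEquiv.symm_apply_apply, ← he, AddEquiv.symm_apply_apply]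
    rw [hψa, hψa u m, map_add]
    congr 1
    · apply addUnits_ext
      rw [vl_um, vl_um, vl_um, vl_ug, hσR]
    · have h : (ψ.comp (AddMonoidHom.inr _ _)).comp (Finsupp.mapDomain.addMonoidHom (g • ·)) =
          (um (σR g)).comp (ψ.comp (AddMonoidHom.inr _ _)) := by
        refine Finsupp.addHom_ext fun q k => ?_
        change ψ (0, Finsupp.mapDomain (g • ·) (Finsupp.single q k)) = um (σR g) (ψ (0, Finsupp.single q k))
        rw [Finsupp.mapDomain_single, hψs, hψs, map_zsmul, hwG]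
      exact DFunLike.congr_fun h m

/-- Hilbert 90 descends along an equivariant retraction. -/
theorem h90_of_retraction {G : Type v} [Group G] {R : Type w} [CommRing R] {L : Type w'} [CommRing L]
    [MulSemiringAction G R] [MulSemiringAction G L] (h90 : H90P L G) (j₂ : R →+* L)
    (hj : ∀ (g : G) x, g • (j₂ x) = j₂ (g • x))
    (r : Additive Lˣ →+ Additive Rˣ) (hr : ∀ x, r (um j₂ x) = x)
    (hrG : ∀ (g : G) z, r (um (MulSemiringAction.toRingHom G L g) z) = um (MulSemiringAction.toRingHom G R g) (r z)) :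
    H90P R G := by
  intro D f hf
  obtain ⟨z, hz⟩ := h90 D (fun d => Units.map (j₂ : R →* L) (f d)) (fun d e => by
    change j₂ (f (d * e) : R) = j₂ (f d : R) * (d : G) • (j₂ (f e : R))
    rw [hf, map_mul, hj])
  refine ⟨(r (Additive.ofMul z)).toMul, fun d => ?_⟩
  have h1 : um j₂ (Additive.ofMul (f d)) + um (MulSemiringAction.toRingHom G L (d : G)) (Additive.ofMul z) =
      Additive.ofMul z := addUnits_ext (hz d)
  have h2 := congrArg r h1
  rw [map_add, hr, hrG] at h2
  have h3 := congrArg vl h2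
  rw [vl_add, vl_um] at h3
  exact h3

end K574.RetrU
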