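import Groth.Agent.MultTori.K574.Cover
import Groth.Agent.MultTori.K574.RetrU
import Groth.Agent.MultTori.K964.FracB
import Groth.Agent.MultTori.K964.SemiGal
import Groth.Agent.MultTori.K964.DictBc

/-!
# The geometry of a Galois covering of an open subscheme of the spectrum of a domain

`X` open in `Spec A`, `B / A` Galois with `B` factorial, `K = Frac A`, `Y = Spec K`, `Yc = Spec (K ⊗ B)`.  The equivariant
retraction `Γ(Yc)ˣ → Γ(Xc)ˣ`.
-/

set_option autoImplicit false
set_option linter.unusedSectionVars false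
universe u
open CategoryTheory CategoryTheory.Limits AlgebraicGeometry TensorProduct MonoidalCategory CartesianMonoidalCategory
open Opposite

namespace K574.Geo

open K965.Gal K965.Pts K574.GalAlg K574.GalEv K574.GalPts K574.CechTwo K574.Cover K964.DivSec

section points

variable {R : Type u} [CommRing R] [IsDomain R]

lemma mem_of_open {Z : Scheme.{u}} (f : Z ⟶ Spec (CommRingCat.of R)) [IsOpenImmersion f] [Nonempty Z]
    (x : Spec (CommRingCat.of R)) (hx : x.asIdeal = ⊥) : x ∈ Set.range f := by
  obtain ⟨z⟩ := (inferInstance : Nonempty Z)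
  have h1 : x ⤳ f z := by
    refine (PrimeSpectrum.le_iff_specializes x (f z)).1 ?_
    change x.asIdeal ≤ _
    rw [hx]
    exact bot_le
  exact h1.mem_open f.isOpenEmbedding.isOpen_range ⟨z, rfl⟩

lemma range_le {Z : Scheme.{u}} (f : Z ⟶ Spec (CommRingCat.of R)) [IsOpenImmersion f] [Nonempty Z]
    {L : Type u} [Field L] (φ : R →+* L) (hφ : Function.Injective φ) :
    Set.range (Spec.map (CommRingCat.ofHom φ)) ⊆ Set.range f := by
  rintro _ ⟨y, rfl⟩
  apply mem_of_open
  have h1 : y = (⊥ : PrimeSpectrum L) := Subsingleton.elim (α := PrimeSpectrum L) _ _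
  rw [h1]
  change Ideal.comap φ ⊥ = ⊥
  rw [← RingHom.ker_eq_comap_bot]
  exact (RingHom.injective_iff_ker_eq_bot φ).1 hφ

end points

variable {A B : Type u} [CommRing A] [IsDomain A] [CommRing B] [IsDomain B] [Algebra A B] {G : Type} [Group G]
  [Fintype G] [MulSemiringAction G B] [SMulCommClass G A B]

/-- the generic point -/
noncomputable abbrev Yb (A : Type u) [CommRing A] : Over (Spec (CommRingCat.of A)) :=
  sp (algebraMap A (FractionRing A))

/-- the generic point of the covering -/
noncomputable abbrev Yc (A B : Type u) [CommRing A] [CommRing B] [Algebra A B] : Over (Spec (CommRingCat.of A)) :=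
  sp (algebraMap A (FractionRing A ⊗[A] B))

theorem exists_j (X : Over (Spec (CommRingCat.of A))) [IsOpenImmersion X.hom] [Nonempty X.left] :
    Nonempty (Yb A ⟶ X) :=
  ⟨Over.homMk (IsOpenImmersion.lift X.hom _ (range_le X.hom (algebraMap A (FractionRing A))
    (IsFractionRing.injective A (FractionRing A)))) (IsOpenImmersion.lift_fac _ _ _)⟩

/-- the projection -/
noncomputable def pY (A B : Type u) [CommRing A] [CommRing B] [Algebra A B] : Yc A B ⟶ Yb A :=
  mp ((Algebra.TensorProduct.includeLeft : FractionRing A →ₐ[A] FractionRing A ⊗[A] B) :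
    FractionRing A →+* FractionRing A ⊗[A] B) (AlgHom.comp_algebraMap _)

/-- the other projection -/
noncomputable def qY (A B : Type u) [CommRing A] [CommRing B] [Algebra A B] : Yc A B ⟶ sp (algebraMap A B) :=
  mp ((Algebra.TensorProduct.includeRight : B →ₐ[A] FractionRing A ⊗[A] B) : B →+* FractionRing A ⊗[A] B)
    (AlgHom.comp_algebraMap _)

/-- the action on the covering -/
noncomputable def sY (A B : Type u) [CommRing A] [CommRing B] [Algebra A B] {G : Type} [Group G]
    [MulSemiringAction G B] [SMulCommClass G A B] (g : G) : Yc A B ⟶ Yc A B :=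
  mp (((act A B (FractionRing A) g).restrictScalars A : FractionRing A ⊗[A] B →ₐ[A] FractionRing A ⊗[A] B) :
    FractionRing A ⊗[A] B →+* FractionRing A ⊗[A] B) (AlgHom.comp_algebraMap _)

lemma mp_congr {A R R' : Type u} [CommRing A] [CommRing R] [CommRing R'] {φ : A →+* R} {φ' : A →+* R'}
    {ψ ψ' : R →+* R'} {h : ψ.comp φ = φ'} {h' : ψ'.comp φ = φ'} (e : ψ = ψ') : mp ψ h = mp ψ' h' := by
  subst e
  rfl

omit [IsDomain A] [IsDomain B] [Fintype G] in
lemma sY_pY (g : G) : sY A B g ≫ pY A B = pY A B := by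
  rw [sY, pY, mp_comp _ _ _ _ (by rw [RingHom.comp_assoc, AlgHom.comp_algebraMap, AlgHom.comp_algebraMap])]
  apply mp_congr
  ext x
  change act A B (FractionRing A) g (x ⊗ₜ 1) = x ⊗ₜ 1
  rw [act_tmul, smul_one]

omit [IsDomain A] [IsDomain B] [Fintype G] in
lemma sY_qY (g : G) : sY A B g ≫ qY A B = qY A B ≫ tau A B g := by
  rw [sY, qY, tau, mp_comp _ _ _ _ (by rw [RingHom.comp_assoc, AlgHom.comp_algebraMap, AlgHom.comp_algebraMap]),
    mp_comp _ _ _ _ (by rw [RingHom.comp_assoc, AlgHom.comp_algebraMap, AlgHom.comp_algebraMap])]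
  apply mp_congr
  ext x
  change act A B (FractionRing A) g (1 ⊗ₜ x) = 1 ⊗ₜ (g • x)
  rw [act_tmul]

omit [IsDomain A] [IsDomain B] [Fintype G] in
lemma sY_mul (g h : G) : sY A B (g * h) = sY A B g ≫ sY A B h := by
  rw [sY, sY, sY, mp_comp _ _ _ _ (by rw [RingHom.comp_assoc, AlgHom.comp_algebraMap, AlgHom.comp_algebraMap])]
  apply mp_congr
  refine RingHom.ext fun x => ?_
  change act A B (FractionRing A) (g * h) x = act A B (FractionRing A) g (act A B (FractionRing A) h x)
  rw [act_act]

variable {X : Over (Spec (CommRingCat.of A))} (j : Yb A ⟶ X)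

/-- the map between the coverings -/
noncomputable def jc : Yc A B ⟶ Xc A B X := CartesianMonoidalCategory.lift (pY A B ≫ j) (qY A B)

omit [IsDomain A] [IsDomain B] in
@[simp] lemma jc_fst : jc (B := B) j ≫ fst _ _ = pY A B ≫ j := lift_fst _ _

omit [IsDomain A] [IsDomain B] in
@[simp] lemma jc_snd : jc (B := B) j ≫ snd _ _ = qY A B := lift_snd _ _

omit [IsDomain A] [IsDomain B] [Fintype G] in
lemma sY_jc (g : G) : sY A B g ≫ jc j = jc j ≫ sg A B X g := by
  ext1
  · rw [Category.assoc, Category.assoc, sg_fst, jc_fst, ← Category.assoc, sY_pY]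
  · rw [Category.assoc, Category.assoc, sg_snd, jc_snd, sY_qY, ← Category.assoc, jc_snd]

section inst

variable [IsOpenImmersion X.hom] [Nonempty X.left]

instance : IsOpenImmersion (snd X (sp (algebraMap A B))).left :=
  inferInstanceAs (IsOpenImmersion (pullback.snd X.hom (Spec.map (CommRingCat.ofHom (algebraMap A B)))))

include j in
omit [IsDomain A] [IsOpenImmersion X.hom] [Nonempty X.left] in
lemma nonempty_Xc [Nontrivial (FractionRing A ⊗[A] B)] : Nonempty (Xc A B X).left := by
  have h : Nonempty (Spec (CommRingCat.of (FractionRing A ⊗[A] B))) :=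
    inferInstanceAs (Nonempty (PrimeSpectrum (FractionRing A ⊗[A] B)))
  exact ⟨(jc (B := B) j).left h.some⟩

end inst

end K574.Geo
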