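import Groth.Agent.MultTori.K574.Geo

/-!
# The equivariant retraction on units of functions
-/

set_option autoImplicit false
set_option linter.unusedSectionVars false
universe u
open CategoryTheory CategoryTheory.Limits AlgebraicGeometry TensorProduct MonoidalCategory CartesianMonoidalCategory
open Opposite

namespace K574.Geo2

open K965.Gal K965.Pts K574.GalAlg K574.GalEv K574.GalPts K574.CechTwo K574.Cover K964.DivSec K574.Geo

lemma isUnit_of_basicOpen {Z : Scheme.{u}} (f : Γ(Z, ⊤)) (h : ∀ z : Z, z ∈ Z.basicOpen f) : IsUnit f :=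
  RingedSpace.isUnit_of_isUnit_germ (X := Z.toLocallyRingedSpace.toRingedSpace) ⊤ f
    (fun x hx => (Scheme.mem_basicOpen _ _ x hx).1 (h x))

section basic

variable {A B : Type u} [CommRing A] [CommRing B] [Algebra A B]

lemma mem_basicOpen_sb {W : Over (Spec (CommRingCat.of A))} (b : W ⟶ sp (algebraMap A B)) (c : B) (z : W.left) :
    z ∈ W.left.basicOpen (sb b c) ↔ c ∉ (b.left z).asIdeal := by
  have h1 : W.left.basicOpen (sb b c) =
      b.left ⁻¹ᵁ ((Spec (CommRingCat.of B)).basicOpen ((Scheme.ΓSpecIso (CommRingCat.of B)).inv c)) :=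
    (Scheme.preimage_basicOpen b.left _).symm
  rw [h1, basicOpen_eq_of_affine]
  rfl

lemma gam_sb {R : Type u} [CommRing R] [Algebra A R] (ψ : B →ₐ[A] R) (c : B) :
    gam (algebraMap A R) (sb (mp (ψ : B →+* R) ψ.comp_algebraMap : sp (algebraMap A R) ⟶ sp (algebraMap A B)) c) =
      ψ c := by
  change (Scheme.ΓSpecIso (CommRingCat.of R)).hom ((Spec.map (CommRingCat.ofHom (ψ : B →+* R))).appTop
    ((Scheme.ΓSpecIso (CommRingCat.of B)).inv c)) = ψ c
  have h := congr($(Scheme.ΓSpecIso_naturality (CommRingCat.ofHom (ψ : B →+* R))).hom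
    ((Scheme.ΓSpecIso (CommRingCat.of B)).inv c))
  refine h.trans ?_
  change ψ ((Scheme.ΓSpecIso (CommRingCat.of B)).hom ((Scheme.ΓSpecIso (CommRingCat.of B)).inv c)) = ψ c
  rw [Iso.inv_hom_id_apply]

end basic

variable {A B : Type u} [CommRing A] [IsDomain A] [CommRing B] [IsDomain B] [Algebra A B] {G : Type} [Group G]
  [Fintype G] [MulSemiringAction G B] [SMulCommClass G A B] [Module.Flat A B] [Module.Finite A B] [FaithfulSMul A B]
  {X : Over (Spec (CommRingCat.of A))} (j : Yb A ⟶ X) [IsOpenImmersion X.hom]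

/-- functions on the generic point of the covering -/
noncomputable abbrev gL (A B : Type u) [CommRing A] [CommRing B] [Algebra A B] :
    Γ((Yc A B).left, ⊤) ≃+* FractionRing A ⊗[A] B := gam (algebraMap A (FractionRing A ⊗[A] B))

omit [IsDomain A] [IsDomain B] [Module.Flat A B] [Module.Finite A B] [FaithfulSMul A B] [IsOpenImmersion X.hom] in
lemma gL_j (c : B) : gL A B (pf (jc j) (sb (snd X (sp (algebraMap A B))) c)) =
    (Algebra.TensorProduct.includeRight : B →ₐ[A] FractionRing A ⊗[A] B) c := by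
  have h1 : pf (jc j) (sb (snd X (sp (algebraMap A B))) c) = sb (qY A B) c := by
    have h2 := sb_comp (jc j) (snd X (sp (algebraMap A B)))
    rw [jc_snd] at h2
    rw [h2]
    rfl
  rw [h1]
  exact gam_sb _ c

theorem nontr : Nontrivial (FractionRing A ⊗[A] B) :=
  (K964.FracB.includeRight_injective (A := A) (B := B) (FractionRing A)).nontrivial

lemma comp_injective : Function.Injective (fun c : B => pf (jc j) (sb (snd X (sp (algebraMap A B))) c)) := by
  intro c c' h
  have h1 := congrArg (gL A B) h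
  beta_reduce at h1
  rw [gL_j, gL_j] at h1
  exact K964.FracB.includeRight_injective (A := A) (B := B) (FractionRing A) h1

include j in
lemma nonempty_left : Nonempty (Xc A B X).left := by
  have := nontr (A := A) (B := B)
  have h : Nonempty (Spec (CommRingCat.of (FractionRing A ⊗[A] B))) :=
    inferInstanceAs (Nonempty (PrimeSpectrum (FractionRing A ⊗[A] B)))
  exact ⟨(jc (B := B) j).left h.some⟩

include j in
lemma isIntegral_Xc : IsIntegral (Xc A B X).left := by
  have := nonempty_left (A := A) (B := B) j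
  have : IsOpenImmersion (snd X (sp (algebraMap A B))).left :=
    inferInstanceAs (IsOpenImmersion (pullback.snd X.hom (Spec.map (CommRingCat.ofHom (algebraMap A B)))))
  have : IsIntegral (sp (algebraMap A B)).left := inferInstanceAs (IsIntegral (Spec (CommRingCat.of B)))
  exact isIntegral_of_isOpenImmersion (snd X (sp (algebraMap A B))).left

/-- the point of the covering over the generic point of `Spec B` is in the image of `Yc` -/
lemma exists_jc (z : (Xc A B X).left) (hz : ((snd X (sp (algebraMap A B))).left z).asIdeal = ⊥) :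
    ∀ y : (Yc A B).left, (jc (B := B) j).left y = z := by
  intro y
  have : IsOpenImmersion (snd X (sp (algebraMap A B))).left :=
    inferInstanceAs (IsOpenImmersion (pullback.snd X.hom (Spec.map (CommRingCat.ofHom (algebraMap A B)))))
  apply (snd X (sp (algebraMap A B))).left.isOpenEmbedding.injective
  have h1 : (snd X (sp (algebraMap A B))).left ((jc (B := B) j).left y) = (qY A B).left y := by
    rw [← jc_snd (B := B) j]
    rfl
  rw [h1]
  refine PrimeSpectrum.ext ?_
  rw [hz]
  change Ideal.comap (Algebra.TensorProduct.includeRight : B →ₐ[A] FractionRing A ⊗[A] B) _ = ⊥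
  rw [eq_bot_iff]
  intro b hb
  by_contra hb0
  exact y.isPrime.ne_top (Ideal.eq_top_of_isUnit_mem _ hb
    (K964.FracB.isUnit_includeRight (A := A) (FractionRing A) b hb0))

lemma pf_jc_injective : Function.Injective (pf (jc (B := B) j)) := by
  have := isIntegral_Xc (A := A) (B := B) j
  have := nontr (A := A) (B := B)
  rw [injective_iff_map_eq_zero]
  intro f hf
  rw [← basicOpen_eq_bot_iff]
  by_contra hne
  have h1 : (jc (B := B) j).left ⁻¹ᵁ ((Xc A B X).left.basicOpen f) = ⊥ := by
    rw [Scheme.preimage_basicOpen]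
    have h2 : (jc (B := B) j).left.appTop.hom f = 0 := hf
    exact (congrArg _ h2).trans (Scheme.basicOpen_zero _ _)
  have : IsOpenImmersion (snd X (sp (algebraMap A B))).left :=
    inferInstanceAs (IsOpenImmersion (pullback.snd X.hom (Spec.map (CommRingCat.ofHom (algebraMap A B)))))
  obtain ⟨z, hz⟩ : ∃ z, z ∈ (Xc A B X).left.basicOpen f := by
    by_contra h
    push Not at h
    exact hne (eq_bot_iff.2 fun z hz => (h z hz).elim)
  let V := (Xc A B X).left.basicOpen f
  have : Nonempty (V : Scheme.{u}) := ⟨⟨z, hz⟩⟩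
  obtain ⟨v, hv⟩ := mem_of_open (R := B) (V.ι ≫ (snd X (sp (algebraMap A B))).left) (⊥ : PrimeSpectrum B) rfl
  have h : Nonempty (Spec (CommRingCat.of (FractionRing A ⊗[A] B))) :=
    inferInstanceAs (Nonempty (PrimeSpectrum (FractionRing A ⊗[A] B)))
  have h3 := exists_jc (B := B) j (V.ι v) (by
    change ((V.ι ≫ (snd X (sp (algebraMap A B))).left) v).asIdeal = ⊥
    rw [hv]
    rfl) h.some
  have h4 : h.some ∈ (jc (B := B) j).left ⁻¹ᵁ V := by
    change (jc (B := B) j).left h.some ∈ V
    rw [h3]
    exact v.2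
  rw [h1] at h4
  exact h4

/-- the alternative for a principal prime -/
lemma alternative (q : Pr B) :
    (∀ b, q.1 = Ideal.span {b} → IsUnit (sb (snd X (sp (algebraMap A B))) b)) ∨
      ∃ (κ : Type u) (_ : Field κ) (φ : Γ((Xc A B X).left, ⊤) →+* κ),
        ∀ c : B, φ (sb (snd X (sp (algebraMap A B))) c) = 0 ↔ c ∈ q.1 := by
  have : IsOpenImmersion (snd X (sp (algebraMap A B))).left :=
    inferInstanceAs (IsOpenImmersion (pullback.snd X.hom (Spec.map (CommRingCat.ofHom (algebraMap A B)))))
  let x : PrimeSpectrum B := ⟨q.1, q.2.1⟩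
  by_cases hx : x ∈ Set.range (snd X (sp (algebraMap A B))).left
  · right
    obtain ⟨z, hz⟩ := hx
    refine ⟨(Xc A B X).left.residueField z, inferInstance,
      ((Xc A B X).left.evaluation ⊤ z trivial).hom, fun c => ?_⟩
    refine ((Xc A B X).left.evaluation_eq_zero_iff_notMem_basicOpen (U := ⊤) z trivial _).trans ?_
    rw [mem_basicOpen_sb, not_not, hz]
  · left
    intro b hb
    apply isUnit_of_basicOpen
    intro z
    rw [mem_basicOpen_sb]
    intro hbz
    apply hx
    have h1 : x ⤳ (snd X (sp (algebraMap A B))).left z := by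
      refine (PrimeSpectrum.le_iff_specializes x _).1 ?_
      change q.1 ≤ _
      rw [hb, Ideal.span_singleton_le_iff_mem]
      exact hbz
    exact h1.mem_open (snd X (sp (algebraMap A B))).left.isOpenEmbedding.isOpen_range ⟨z, rfl⟩

lemma exists_fractions (z : Γ((Yc A B).left, ⊤)ˣ) : ∃ b b' : B, b ≠ 0 ∧ b' ≠ 0 ∧
    (z : Γ((Yc A B).left, ⊤)) * pf (jc j) (sb (snd X (sp (algebraMap A B))) b') =
      pf (jc j) (sb (snd X (sp (algebraMap A B))) b) := by
  obtain ⟨b, b', h1, h2, h3⟩ := K964.FracB.exists_fractions (A := A) (B := B) (FractionRing A)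
    (Units.map (gL A B : Γ((Yc A B).left, ⊤) →* _) z)
  refine ⟨b, b', h1, h2, (gL A B).injective ?_⟩
  rw [map_mul, gL_j, gL_j]
  exact h3

lemma isUnit_j (b : B) (hb : b ≠ 0) : IsUnit (pf (jc j) (sb (snd X (sp (algebraMap A B))) b)) := by
  rw [← MulEquiv.isUnit_map (gL A B), gL_j]
  exact K964.FracB.isUnit_includeRight (A := A) (FractionRing A) b hb

/-- **The equivariant retraction.** -/
theorem exists_retr [UniqueFactorizationMonoid B] (h90 : H90P B G) :
    ∃ r : Additive Γ((Yc A B).left, ⊤)ˣ →+ Additive Γ((Xc A B X).left, ⊤)ˣ,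
      (∀ x, r (um (pf (jc (B := B) j) : Γ((Xc A B X).left, ⊤) →+* Γ((Yc A B).left, ⊤)) x) = x) ∧
      ∀ (g : G) z, r (um (pf (sY A B g) : Γ((Yc A B).left, ⊤) →+* Γ((Yc A B).left, ⊤)) z) =
        um (pf (sg A B X g) : Γ((Xc A B X).left, ⊤) →+* Γ((Xc A B X).left, ⊤)) (r z) := by
  refine K574.RetrU.exists_retraction (G := G) h90
    (sb (snd X (sp (algebraMap A B))) : B →+* Γ((Xc A B X).left, ⊤))
    (pf (jc (B := B) j) : Γ((Xc A B X).left, ⊤) →+* Γ((Yc A B).left, ⊤)) ?_ (pf_jc_injective j) (exists_fractions j)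
    (isUnit_j j) (fun g => (pf (sg A B X g) : Γ((Xc A B X).left, ⊤) →+* Γ((Xc A B X).left, ⊤)))
    (fun g => (pf (sY A B g) : Γ((Yc A B).left, ⊤) →+* Γ((Yc A B).left, ⊤))) ?_ ?_ alternative
  · intro x y h
    apply comp_injective j
    exact congrArg (pf (jc j)) h
  · intro g b
    have h1 := sb_comp (sg A B X g) (snd X (sp (algebraMap A B)))
    rw [sg_snd, sb_tau] at h1
    exact (DFunLike.congr_fun h1 b).symm
  · intro g x
    have h1 := pf_comp (jc (B := B) j) (sY A B g)
    rw [sY_jc, pf_comp] at h1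
    exact (DFunLike.congr_fun h1 x).symm

end K574.Geo2
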