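import Groth.Agent.MultTori.K574.RetrF
import Groth.Agent.MultTori.K574.GmInj
import Groth.Agent.GaDual.K771.ZarH90
import Groth.Agent.GaDual.K771.PicLift
import Groth.Agent.TateGlob.K827.Abs
import Groth.Prelude.Def_GmPts2
import Mathlib.LinearAlgebra.FreeModule.Basic

/-!
# From the multiplicative group to split tori over the splitting cover

`Z` over `Spec A` with a morphism to `Spec B`, `T` with a dictionary with values in a lattice `N`.
* `H1_zero_of_pic`: `H¹_fppf(Z, T) = 0` if every invertible module on `Z` is trivial;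
* `H2_zero_of_gen`: a class of `H²_fppf(Z, T)` vanishing at the generic points of `Z` is zero if `Z` is factorial.
-/

set_option autoImplicit false
set_option linter.unusedSectionVars false
universe u
open CategoryTheory CategoryTheory.Limits AlgebraicGeometry TensorProduct MonoidalCategory CartesianMonoidalCategory
open Opposite
open scoped MonObj

namespace K574.GmBr

open K965.Gal K965.Pts K574.GalAlg K574.GalEv K574.GalPts K574.CechTwo K574.Cover K964.DivSec K574.Geo K574.Geo2
open K574.RetrF K828 K828.BigCoh K827.H1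

/-- `H¹_fppf(Z, G_m) = 0` if all invertible modules are trivial -/
theorem H1_gm (Z : Scheme.{u})
    (hPic : ∀ L : Z.Modules, PicF.IsInvertible L → Nonempty (L ≅ Coh.structureModule Z))
    (x : BigSite.H fp Z (EtDl.GmF Z) 1) : x = 0 := by
  have hI : Injective (emb (EtDl.GmF Z)).X₂ := inferInstanceAs (Injective (Injective.under (EtDl.GmF Z)))
  have hm : Mono (emb (EtDl.GmF Z)).f := (emb_exact (EtDl.GmF Z)).mono_f
  apply (K827.Abs.absE (EtDl.GmF Z) 1).injective
  rw [map_zero]
  obtain ⟨y, hy⟩ := (bigCoh fp Z).exists_del (emb_exact (EtDl.GmF Z)) (K827.Abs.absE (EtDl.GmF Z) 1 x)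
  rw [← hy]
  obtain ⟨q, rfl⟩ := (bigCoh fp Z).sec.symm.surjective y
  rw [del_sec_eq_zero_iff]
  exact K771.PicLift.exists_lift (emb_exact (EtDl.GmF Z)).exact (GmPts.gmFIso Z).symm (Over.mk (𝟙 Z)) hPic q
    (fun z => K771.ZarH90.exists_zar_lift (emb_exact (EtDl.GmF Z)) (GmPts.gmFIso Z).symm q z)

section H

variable {K : Precoverage Scheme.{u}} {Z : Scheme.{u}} {F F' : BigSite.Ab K Z}

lemma map_sum {I : Type} (s : Finset I) (f : I → (F ⟶ F')) (n : ℕ) (x : BigSite.H K Z F n) :
    Sheaf.H.map (∑ i ∈ s, f i) n x = ∑ i ∈ s, Sheaf.H.map (f i) n x := by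
  classical
  induction s using Finset.induction with
  | empty =>
    simp only [Finset.sum_empty]
    rw [Sheaf.H.map_apply, Abelian.Ext.mk₀_zero, Abelian.Ext.comp_zero]
  | insert a s ha ih =>
    rw [Finset.sum_insert ha, Finset.sum_insert ha, ← ih, Sheaf.H.map_apply, Sheaf.H.map_apply, Sheaf.H.map_apply,
      Abelian.Ext.mk₀_add, Abelian.Ext.comp_add]

lemma eq_zero_of_decomp {I : Type} [Fintype I] {L : BigSite.Ab K Z} (pr : I → (F ⟶ L)) (io : I → (L ⟶ F))
    (h : ∑ i, pr i ≫ io i = 𝟙 F) (n : ℕ) (x : BigSite.H K Z F n) (hx : ∀ i, Sheaf.H.map (pr i) n x = 0) :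
    x = 0 := by
  rw [← Sheaf.H.map_id_apply x, ← h, map_sum]
  refine Finset.sum_eq_zero fun i _ => ?_
  rw [Sheaf.H.map_comp_apply, hx, map_zero]

lemma eq_zero_of_map_iso (e : F ≅ F') (n : ℕ) (x : BigSite.H K Z F n) (h : Sheaf.H.map e.hom n x = 0) : x = 0 := by
  rw [← Sheaf.H.map_id_apply x, ← e.hom_inv_id, Sheaf.H.map_comp_apply, h, map_zero]

end H

variable {A B : Type u} [CommRing A] [CommRing B] [Algebra A B] {G : Type} [Group G]
  [Fintype G] [MulSemiringAction G B] [SMulCommClass G A B] (d : Dual A B G)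
  {T : Over (Spec (CommRingCat.of A))} [GrpObj T] [IsCommMonObj T] [IsAffine T.left] {N : Type} [AddCommGroup N]
  [DistribMulAction G N] (D : K965.Dict A B G T N) {Z : Over (Spec (CommRingCat.of A))}
  (b : Z ⟶ sp (algebraMap A B))

/-- the sheaf over `Z` -/
noncomputable abbrev FZ (T : Over (Spec (CommRingCat.of A))) [GrpObj T] [IsCommMonObj T]
    (Z : Over (Spec (CommRingCat.of A))) : BigSite.Ab fp Z.left :=
  (BigSite.pullBig fp Z.hom AddCommGrpCat.{u + 1}).obj (CGrpSh.pts fp T)

/-- a scheme over `Z` as a scheme over `Spec A` -/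
noncomputable abbrev dn (Z : Over (Spec (CommRingCat.of A))) (V : Over Z.left) : Over (Spec (CommRingCat.of A)) :=
  (Over.map Z.hom).obj V

/-- its structure morphism -/
noncomputable def iv (Z : Over (Spec (CommRingCat.of A))) (V : Over Z.left) : dn Z V ⟶ Z := Over.homMk V.hom rfl

lemma iv_nat {V V' : Over Z.left} (k : V' ⟶ V) : (Over.map Z.hom).map k ≫ iv Z V = iv Z V' := by
  ext1
  exact Over.w k

/-- units of the structure sheaf of a scheme over `Z` -/
abbrev UV (Z : Over (Spec (CommRingCat.of A))) (V : Over Z.left) : Type u := Additive Γ((dn Z V).left, ⊤)ˣ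

/-- the projection of index `n` -/
noncomputable def pr (n : N) : FZ T Z ⟶ EtDl.GmF Z.left :=
  ⟨{ app := fun V => AddCommGrpCat.ofHom
      ((AddEquiv.ulift (α := UV Z (unop V))).symm.toAddMonoidHom.comp
        ((AddMonoidHom.eval n).comp (ev1 D (iv Z (unop V) ≫ b))))
     naturality := by
      intro V V' k
      refine AddCommGrpCat.ext fun s => ?_
      refine ULift.ext (α := UV Z (unop V')) _ _ ?_
      have h1 := evE_rs d D (iv Z (unop V) ≫ b) ((Over.map Z.hom).map k.unop) s
      rw [← Category.assoc, iv_nat] at h1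
      exact DFunLike.congr_fun h1 n }⟩

lemma pr_apply (n : N) (V : Over Z.left) (s : (CGrpSh.pts fp T).obj.obj (op (dn Z V))) :
    (ULift.down (α := UV Z V) ((pr d D b n).hom.app (op V) s)) = evE d D (iv Z V ≫ b) s n := rfl

/-- the multiplication of a homomorphism to `ℤ` by a unit -/
def mulChi (U : Type u) [AddCommGroup U] (χ : N →+ ℤ) : U →+ (N →+ U) :=
  AddMonoidHom.mk' (fun x => AddMonoidHom.mk' (fun n => χ n • x) (fun n n' => by rw [map_add, add_smul]))
    (fun x y => AddMonoidHom.ext fun n => smul_add _ _ _)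

lemma mulChi_apply (U : Type u) [AddCommGroup U] (χ : N →+ ℤ) (x : U) (n : N) : mulChi U χ x n = χ n • x := rfl

/-- the inclusion of index `χ` -/
noncomputable def io (χ : N →+ ℤ) : EtDl.GmF Z.left ⟶ FZ T Z :=
  ⟨{ app := fun V => AddCommGrpCat.ofHom
      (((evE d D (iv Z (unop V) ≫ b)).symm.toAddMonoidHom.comp (mulChi (UV Z (unop V)) χ)).comp
        (AddEquiv.ulift (α := UV Z (unop V))).toAddMonoidHom)
     naturality := by
      intro V V' k
      refine AddCommGrpCat.ext fun s => ?_
      apply (evE d D (iv Z (unop V') ≫ b)).injective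
      have h1 := evE_rs d D (iv Z (unop V) ≫ b) ((Over.map Z.hom).map k.unop)
        ((evE d D (iv Z (unop V) ≫ b)).symm (mulChi (UV Z (unop V)) χ (ULift.down (α := UV Z (unop V)) s)))
      rw [← Category.assoc, iv_nat, AddEquiv.apply_symm_apply] at h1
      refine Eq.trans ?_ h1.symm
      refine ((evE d D (iv Z (unop V') ≫ b)).apply_symm_apply _).trans ?_
      refine AddMonoidHom.ext fun n => ?_
      exact (map_zsmul (um (pf ((Over.map Z.hom).map k.unop) :
        Γ((dn Z (unop V)).left, ⊤) →+* Γ((dn Z (unop V')).left, ⊤))) (χ n)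
          (ULift.down (α := UV Z (unop V)) s)).symm }⟩

lemma io_apply (χ : N →+ ℤ) (V : Over Z.left) (s : (EtDl.GmF Z.left).obj.obj (op V)) :
    (io d D b χ).hom.app (op V) s =
      (evE d D (iv Z V ≫ b)).symm (mulChi (UV Z V) χ (ULift.down (α := UV Z V) s)) := rfl

theorem decomp {I : Type} [Fintype I] (e : Module.Basis I ℤ N) :
    ∑ i, pr d D b (e i) ≫ io d D b (e.coord i).toAddMonoidHom = 𝟙 (FZ T Z) := by
  apply Sheaf.hom_ext
  refine NatTrans.ext (funext fun V => ?_)
  refine AddCommGrpCat.ext fun s => ?_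
  have h1 : ∀ (t : Finset I), (∑ i ∈ t, pr d D b (e i) ≫ io d D b (e.coord i).toAddMonoidHom).hom.app V s =
      ∑ i ∈ t, (evE d D (iv Z (unop V) ≫ b)).symm
        (mulChi (UV Z (unop V)) (e.coord i).toAddMonoidHom (evE d D (iv Z (unop V) ≫ b) s (e i))) := by
    classical
    intro t
    induction t using Finset.induction with
    | empty =>
      simp only [Finset.sum_empty]
      rfl
    | insert a t ha ih =>
      rw [Finset.sum_insert ha, Finset.sum_insert ha, ← ih]
      rfl
  refine (h1 Finset.univ).trans ?_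
  apply (evE d D (iv Z (unop V) ≫ b)).injective
  rw [_root_.map_sum]
  simp only [AddEquiv.apply_symm_apply]
  refine AddMonoidHom.ext fun n => ?_
  rw [AddMonoidHom.finsetSum_apply]
  simp only [mulChi_apply]
  have h2 := e.sum_repr n
  have h3 := congrArg (evE d D (iv Z (unop V) ≫ b) s) h2
  rw [_root_.map_sum] at h3
  refine Eq.trans ?_ h3
  refine Finset.sum_congr rfl fun i _ => ?_
  rw [map_zsmul]
  rfl

include d D b in
theorem H1_zero_of_pic [Module.Finite ℤ N] [Module.Free ℤ N]
    (hPic : ∀ L : Z.left.Modules, PicF.IsInvertible L → Nonempty (L ≅ Coh.structureModule Z.left))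
    (x : (bigCoh fp (Spec (CommRingCat.of A))).H (CGrpSh.pts fp T) 1 Z) : x = 0 := by
  exact eq_zero_of_decomp _ _ (decomp d D b (Module.Free.chooseBasis ℤ N)) 1 x (fun i => H1_gm Z.left hPic _)

include d D b in
theorem H2_zero_of_gen [Module.Finite ℤ N] [Module.Free ℤ N] [IsNoetherian Z.left]
    [Groth.Agent.CohtopA.GmDivGen.ELF Z.left]
    (y : (bigCoh fp (Spec (CommRingCat.of A))).H (CGrpSh.pts fp T) 2 Z)
    (hy : ∀ (gp : Groth.Agent.CohtopA.GmDivK.Gen Z.left),
      (bigCoh fp (Spec (CommRingCat.of A))).res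
        (Over.homMk (Z.left.fromSpecResidueField gp.1) rfl :
          Over.mk (Z.left.fromSpecResidueField gp.1 ≫ Z.hom) ⟶ Z) y = 0) : y = 0 := by
  refine eq_zero_of_decomp _ _ (decomp d D b (Module.Free.chooseBasis ℤ N)) 2 y (fun i => ?_)
  apply K574.GmInj.main
  intro gp
  have h1 : HRes.pull fp (Z.left.fromSpecResidueField gp.1) (FZ T Z) 2 y = 0 := by
    have h2 := hy gp
    let g : Over.mk (Z.left.fromSpecResidueField gp.1 ≫ Z.hom) ⟶ Z := Over.homMk (Z.left.fromSpecResidueField gp.1) rfl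
    exact eq_zero_of_map_iso (HRes.pullIso fp (CGrpSh.pts fp T) g) 2 _ h2
  refine (HRes.pull_map fp (Z.left.fromSpecResidueField gp.1)
    (pr d D b (Module.Free.chooseBasis ℤ N i)) 2 y).trans ?_
  exact (congrArg _ h1).trans (map_zero _)

end K574.GmBr
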