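import Groth.Agent.MultTori.K574.Geo2
import Groth.Agent.MultTori.K964.Coh
import Groth.Prelude.Def_CGrpSh
import Groth.Agent.TateGlob.K828.BigCoh

/-!
# Retractions on points and vanishing of `H¹`

`T` a commutative group scheme over `Spec A` with a dictionary `D : Dict A B G T N`.
* `evE D b : T(W) ≃+ Hom (N, Γ(W)ˣ)` for `b : W ⟶ Spec B`, `d : Dual A B G`;
* `exists_retrF`: equivariant retraction `T(Yc) → T(Xc)`;
* `H2_inj`: a class of `H²(X, T)` vanishing on `Xc` and on the generic point is zero if `H¹(Xc, T) = H¹(Yc, T) = 0`;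
* `H1_zero`: `H¹(X, T) = 0` for a permutation module `N`, if `H¹(Xc, T) = 0`.
-/

set_option autoImplicit false
set_option linter.unusedSectionVars false
universe u
open CategoryTheory CategoryTheory.Limits AlgebraicGeometry TensorProduct MonoidalCategory CartesianMonoidalCategory
open Opposite
open scoped MonObj

namespace K574.RetrF

open K965.Gal K965.Pts K574.GalAlg K574.GalEv K574.GalPts K574.CechTwo K574.Cover K964.DivSec K574.Geo K574.Geo2
open K828 K828.BigCoh K827.H1

/-- the fppf precoverage -/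
abbrev fp : Precoverage Scheme.{u} := Scheme.fppfPrecoverage.{u}

section ev

variable {A B : Type u} [CommRing A] [CommRing B] [Algebra A B] {G : Type} [Group G]
  [Fintype G] [MulSemiringAction G B] [SMulCommClass G A B] (d : Dual A B G)
  {T : Over (Spec (CommRingCat.of A))} [GrpObj T] [IsCommMonObj T] [IsAffine T.left] {N : Type} [AddCommGroup N]
  [DistribMulAction G N] (D : K965.Dict A B G T N)

/-- characters of points, multiplicatively -/
noncomputable def ev0 {W : Over (Spec (CommRingCat.of A))} (b : W ⟶ sp (algebraMap A B)) :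
    (W ⟶ T) →* Multiplicative (N →+ Additive Γ(W.left, ⊤)ˣ) :=
  MonoidHom.mk' (fun s => Multiplicative.ofAdd (evW D b s)) (fun s t => evW_mul D b s t)

/-- characters of sections -/
noncomputable def ev1 {W : Over (Spec (CommRingCat.of A))} (b : W ⟶ sp (algebraMap A B)) :
    (CGrpSh.pts fp T).obj.obj (op W) →+ (N →+ Additive Γ(W.left, ⊤)ˣ) :=
  (MonoidHom.toAdditiveLeft (ev0 D b)).comp (AddEquiv.ulift (α := Additive (W ⟶ T))).toAddMonoidHom

include d in
lemma ev1_bijective {W : Over (Spec (CommRingCat.of A))} (b : W ⟶ sp (algebraMap A B)) :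
    Function.Bijective (ev1 D b) := by
  constructor
  · intro s t h
    have h1 := evW_injective D b d (a₁ := (ULift.down (α := Additive (W ⟶ T)) s).toMul)
      (a₂ := (ULift.down (α := Additive (W ⟶ T)) t).toMul) h
    exact ULift.ext (α := Additive (W ⟶ T)) _ _ h1
  · intro χ
    obtain ⟨x, hx⟩ := evW_surjective D b d χ
    exact ⟨ULift.up (Additive.ofMul x), hx⟩

/-- points over a scheme over `Spec B` -/
noncomputable def evE {W : Over (Spec (CommRingCat.of A))} (b : W ⟶ sp (algebraMap A B)) :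
    (CGrpSh.pts fp T).obj.obj (op W) ≃+ (N →+ Additive Γ(W.left, ⊤)ˣ) :=
  AddEquiv.ofBijective (ev1 D b) (ev1_bijective d D b)

lemma evE_apply {W : Over (Spec (CommRingCat.of A))} (b : W ⟶ sp (algebraMap A B))
    (s : (CGrpSh.pts fp T).obj.obj (op W)) :
    evE d D b s = evW D b (ULift.down (α := Additive (W ⟶ T)) s).toMul := rfl

lemma evE_rs {W W' : Over (Spec (CommRingCat.of A))} (b : W ⟶ sp (algebraMap A B)) (k : W' ⟶ W)
    (s : (CGrpSh.pts fp T).obj.obj (op W)) :
    evE d D (k ≫ b) (rs (CGrpSh.pts fp T) k s) =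
      (um (pf k : Γ(W.left, ⊤) →+* Γ(W'.left, ⊤))).comp (evE d D b s) :=
  evW_nat D b k _

lemma evE_tau {W : Over (Spec (CommRingCat.of A))} (b : W ⟶ sp (algebraMap A B)) (g : G)
    (s : (CGrpSh.pts fp T).obj.obj (op W)) (n : N) :
    evE d D (b ≫ tau A B g) s n = evE d D b s (g • n) :=
  evW_tau D b g _ n

/-- the action on sections in terms of characters -/
lemma evE_sg (X : Over (Spec (CommRingCat.of A))) (g : G) (s : (CGrpSh.pts fp T).obj.obj (op (Xc A B X))) (n : N) :
    evE d D (snd _ _) (rs (CGrpSh.pts fp T) (sg A B X g) s) n =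
      um (pf (sg A B X g) : Γ((Xc A B X).left, ⊤) →+* Γ((Xc A B X).left, ⊤)) (evE d D (snd _ _) s (g⁻¹ • n)) := by
  have h1 := evE_rs d D (snd X (sp (algebraMap A B))) (sg A B X g) s
  rw [sg_snd] at h1
  have h2 := evE_tau d D (snd X (sp (algebraMap A B))) g (rs (CGrpSh.pts fp T) (sg A B X g) s) (g⁻¹ • n)
  rw [smul_inv_smul, h1] at h2
  exact h2.symm

lemma evE_sY (g : G) (s : (CGrpSh.pts fp T).obj.obj (op (Yc A B))) (n : N) :
    evE d D (qY A B) (rs (CGrpSh.pts fp T) (sY A B g) s) n =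
      um (pf (sY A B g) : Γ((Yc A B).left, ⊤) →+* Γ((Yc A B).left, ⊤)) (evE d D (qY A B) s (g⁻¹ • n)) := by
  have h1 := evE_rs d D (qY A B) (sY A B g) s
  rw [sY_qY] at h1
  have h2 := evE_tau d D (qY A B) g (rs (CGrpSh.pts fp T) (sY A B g) s) (g⁻¹ • n)
  rw [smul_inv_smul, h1] at h2
  exact h2.symm

end ev

variable {A B : Type u} [CommRing A] [IsDomain A] [CommRing B] [IsDomain B] [Algebra A B] {G : Type} [Group G]
  [Fintype G] [MulSemiringAction G B] [SMulCommClass G A B] [Module.Flat A B] [Module.Finite A B] [FaithfulSMul A B]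
  {X : Over (Spec (CommRingCat.of A))} (j : Yb A ⟶ X) [IsOpenImmersion X.hom]
  {T : Over (Spec (CommRingCat.of A))} [GrpObj T] [IsCommMonObj T] [IsAffine T.left] {N : Type} [AddCommGroup N]
  [DistribMulAction G N] (D : K965.Dict A B G T N)

include D in
/-- the equivariant retraction on sections -/
theorem exists_retrF [UniqueFactorizationMonoid B] (h90 : H90P B G) (d : Dual A B G) :
    ∃ r : (CGrpSh.pts fp T).obj.obj (op (Yc A B)) →+ (CGrpSh.pts fp T).obj.obj (op (Xc A B X)),
      (∀ s, r (rs (CGrpSh.pts fp T) (jc j) s) = s) ∧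
      ∀ (g : G) b, r (rs (CGrpSh.pts fp T) (sY A B g) b) = rs (CGrpSh.pts fp T) (sg A B X g) (r b) := by
  obtain ⟨r₀, hr₀, hr₀G⟩ := exists_retr (A := A) (B := B) j h90
  let c : (N →+ Additive Γ((Yc A B).left, ⊤)ˣ) →+ (N →+ Additive Γ((Xc A B X).left, ⊤)ˣ) :=
    AddMonoidHom.mk' (fun χ => r₀.comp χ) (fun χ χ' => AddMonoidHom.comp_add _ _ _)
  let r : (CGrpSh.pts fp T).obj.obj (op (Yc A B)) →+ (CGrpSh.pts fp T).obj.obj (op (Xc A B X)) :=
    (evE d D (snd X (sp (algebraMap A B)))).symm.toAddMonoidHom.comp (c.comp (evE d D (qY A B)).toAddMonoidHom)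
  have hr : ∀ s n, evE d D (snd X (sp (algebraMap A B))) (r s) n = r₀ (evE d D (qY A B) s n) := by
    intro s n
    change evE d D (snd X (sp (algebraMap A B))) ((evE d D (snd X (sp (algebraMap A B)))).symm _) n = _
    rw [AddEquiv.apply_symm_apply]
    rfl
  refine ⟨r, fun s => ?_, fun g b => ?_⟩
  · apply (evE d D (snd X (sp (algebraMap A B)))).injective
    ext1 n
    have h1 := evE_rs d D (snd X (sp (algebraMap A B))) (jc (B := B) j) s
    rw [jc_snd] at h1
    rw [hr, h1]
    exact hr₀ _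
  · apply (evE d D (snd X (sp (algebraMap A B)))).injective
    ext1 n
    rw [hr, evE_sY, hr₀G, evE_sg, hr]

/-- **Injectivity on `H²` for a group with trivial `H¹` over the splitting covers.** -/
theorem H2_inj [UniqueFactorizationMonoid B] (h90 : H90P B G) (hG : IsGal A B G)
    (D : K965.Dict A B G T N)
    (hX' : ∀ x : (bigCoh fp (Spec (CommRingCat.of A))).H (CGrpSh.pts fp T) 1 (Xc A B X), x = 0)
    (hY' : ∀ x : (bigCoh fp (Spec (CommRingCat.of A))).H (CGrpSh.pts fp T) 1 (Yc A B), x = 0)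
    (y : (bigCoh fp (Spec (CommRingCat.of A))).H (CGrpSh.pts fp T) 2 X)
    (h1 : (bigCoh fp (Spec (CommRingCat.of A))).res (fst X (sp (algebraMap A B))) y = 0)
    (h2 : (bigCoh fp (Spec (CommRingCat.of A))).res j y = 0) : y = 0 := by
  obtain ⟨d⟩ := exists_dual hG
  obtain ⟨r, hr, hrG⟩ := exists_retrF j D h90 d
  exact H2_injective (bigCoh fp (Spec (CommRingCat.of A))) (gTor hG X) (Y' := Yc A B) (Y := Yb A) (p' := pY A B)
    (σ' := sY A B) j (jc j) (jc_fst j) (fun g => sY_jc j g) (fun g => sY_pY g) sY_mul (CGrpSh.pts fp T) hX' hY'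
    r hr hrG y h1 h2

section perm

/-- the action on units of functions on the covering -/
noncomputable def rep (A B : Type u) [CommRing A] [CommRing B] [Algebra A B] (G : Type) [Group G]
    [MulSemiringAction G B] [SMulCommClass G A B] (X : Over (Spec (CommRingCat.of A))) :
    Representation ℤ G (Additive Γ((Xc A B X).left, ⊤)ˣ) where
  toFun g := (um (pf (sg A B X g) : Γ((Xc A B X).left, ⊤) →+* Γ((Xc A B X).left, ⊤))).toIntLinearMap
  map_one' := by
    refine LinearMap.ext fun x => ?_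
    change um (pf (sg A B X (1 : G)) : Γ((Xc A B X).left, ⊤) →+* Γ((Xc A B X).left, ⊤)) x = x
    rw [sg_one, pf_id]
    rfl
  map_mul' g h := by
    refine LinearMap.ext fun x => ?_
    change um (pf (sg A B X (g * h)) : Γ((Xc A B X).left, ⊤) →+* Γ((Xc A B X).left, ⊤)) x = _
    rw [sg_mul, pf_comp]
    rfl

omit [IsDomain A] [IsDomain B] [Fintype G] [Module.Flat A B] [Module.Finite A B] [FaithfulSMul A B]
  [IsOpenImmersion X.hom] in
lemma rep_apply (g : G) (x : Additive Γ((Xc A B X).left, ⊤)ˣ) : rep A B G X g x =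
    um (pf (sg A B X g) : Γ((Xc A B X).left, ⊤) →+* Γ((Xc A B X).left, ⊤)) x := rfl

omit [IsDomain A] [IsDomain B] [Fintype G] [Module.Flat A B] [Module.Finite A B] [FaithfulSMul A B] in
lemma gL_sY (g : G) (z : Γ((Yc A B).left, ⊤)) : gL A B (pf (sY A B g) z) = act A B (FractionRing A) g (gL A B z) :=
  gam_naturality (s := algebraMap A (FractionRing A ⊗[A] B)) (s' := algebraMap A (FractionRing A ⊗[A] B))
    (((act A B (FractionRing A) g).restrictScalars A : FractionRing A ⊗[A] B →ₐ[A] FractionRing A ⊗[A] B) :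
      FractionRing A ⊗[A] B →+* FractionRing A ⊗[A] B) (AlgHom.comp_algebraMap _) z

include j in
/-- units of functions on the covering form a coflasque module -/
theorem isCoflasque [UniqueFactorizationMonoid B] (h90 : H90P B G) (hG : IsGal A B G) :
    GLat.IsCoflasque (rep A B G X) := by
  classical
  let _ := K964.DictBc.actBc A B (FractionRing A) G
  have _ := K964.DictBc.commBc A B (FractionRing A) G
  obtain ⟨r, hr, hrG⟩ := exists_retr (A := A) (B := B) j h90
  have hG' : IsGal (FractionRing A) (FractionRing A ⊗[A] B) G := K964.DictBc.isGal_bc A B (FractionRing A) G hG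
  have hfin : Finite (MaximalSpectrum (FractionRing A ⊗[A] B)) := by
    have : Finite (MaximalSpectrum (FractionRing A)) := by
      have : Finite (PrimeSpectrum (FractionRing A)) := inferInstance
      exact Finite.of_injective MaximalSpectrum.toPrimeSpectrum (MaximalSpectrum.toPrimeSpectrum_injective)
    exact K964.SemiGal.finite_max (A := FractionRing A)
  have h := K964.SemiGal.h90P hG'
  intro H f hf
  let κ : Γ((Xc A B X).left, ⊤) →+* FractionRing A ⊗[A] B :=
    (gL A B : Γ((Yc A B).left, ⊤) →+* FractionRing A ⊗[A] B).comp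
      (pf (jc (B := B) j) : Γ((Xc A B X).left, ⊤) →+* Γ((Yc A B).left, ⊤))
  obtain ⟨v, hv⟩ := h H (fun a => Units.map (κ : _ →* _) (f a).toMul) (by
      intro a b
      change gL A B (pf (jc j) ((f (a * b)).toMul : Γ((Xc A B X).left, ⊤))) =
        gL A B (pf (jc j) ((f a).toMul : Γ((Xc A B X).left, ⊤))) *
          act A B (FractionRing A) (a : G) (gL A B (pf (jc j) ((f b).toMul : Γ((Xc A B X).left, ⊤))))
      have e1 : ((f (a * b)).toMul : Γ((Xc A B X).left, ⊤)) =
          (f a).toMul * pf (sg A B X (a : G)) ((f b).toMul : Γ((Xc A B X).left, ⊤)) :=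
        congrArg (fun z : Additive Γ((Xc A B X).left, ⊤)ˣ => (z.toMul : Γ((Xc A B X).left, ⊤))) (hf a b)
      have h1 := pf_comp (jc (B := B) j) (sY A B (a : G))
      rw [sY_jc, pf_comp] at h1
      have h2 := DFunLike.congr_fun h1 ((f b).toMul : Γ((Xc A B X).left, ⊤))
      rw [e1, map_mul, map_mul, ← gL_sY]
      congr 2)
  let w : Additive Γ((Yc A B).left, ⊤)ˣ := Additive.ofMul (Units.map ((gL A B).symm : _ →* _) v)
  have hw : gL A B (w.toMul : Γ((Yc A B).left, ⊤)) = v := (gL A B).apply_symm_apply _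
  refine ⟨- r w, fun a => ?_⟩
  have h3 : um (pf (jc (B := B) j) : Γ((Xc A B X).left, ⊤) →+* Γ((Yc A B).left, ⊤)) (f a) +
      um (pf (sY A B (a : G)) : Γ((Yc A B).left, ⊤) →+* Γ((Yc A B).left, ⊤)) w = w := by
    apply addUnits_ext
    apply (gL A B).injective
    change gL A B (pf (jc j) ((f a).toMul : Γ((Xc A B X).left, ⊤)) * pf (sY A B (a : G)) (w.toMul : Γ((Yc A B).left, ⊤))) = _
    rw [map_mul, gL_sY, hw]
    exact hv a
  have h4 := congrArg r h3
  rw [map_add, hr, hrG] at h4
  rw [map_neg, rep_apply, sub_neg_eq_add, eq_neg_add_iff_add_eq, add_comm]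
  exact h4

include j in
/-- **Vanishing of `H¹` for quasi-trivial tori.** -/
theorem H1_zero [UniqueFactorizationMonoid B] (h90 : H90P B G) (hG : IsGal A B G)
    (hX' : ∀ x : (bigCoh fp (Spec (CommRingCat.of A))).H (CGrpSh.pts fp T) 1 (Xc A B X), x = 0)
    (D : K965.Dict A B G T N) (τ : Representation ℤ G N) (hτ : ∀ g n, τ g n = g • n) (hperm : GLat.IsPermutation τ)
    (x : (bigCoh fp (Spec (CommRingCat.of A))).H (CGrpSh.pts fp T) 1 X) : x = 0 := by
  obtain ⟨d⟩ := exists_dual hG
  have hco := isCoflasque (X := X) j h90 hG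
  have hz := K964.Coh.H1Z.linHom_permutation hperm hco
  refine H1_eq_zero (bigCoh fp (Spec (CommRingCat.of A))) (gTor hG X) (CGrpSh.pts fp T) hX' ?_ x
  intro t ht
  let E := evE d D (snd X (sp (algebraMap A B)))
  have hE : ∀ (g : G) s (n : N), E (rs (CGrpSh.pts fp T) (sg A B X g) s) n = rep A B G X g (E s (g⁻¹ • n)) :=
    fun g s n => evE_sg d D X g s n
  obtain ⟨m, hm⟩ := hz (fun g => (E (t g)).toIntLinearMap) (by
    intro g h
    refine LinearMap.ext fun n => ?_
    change E (t (g * h)) n = E (t g) n + rep A B G X g (E (t h) (τ g⁻¹ n))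
    rw [ht, map_add, hτ, ← hE]
    rfl)
  refine ⟨E.symm m.toAddMonoidHom, fun g => ?_⟩
  apply E.injective
  rw [map_sub, AddEquiv.apply_symm_apply]
  ext1 n
  have h1 := LinearMap.congr_fun (hm g) n
  change E (t g) n = rep A B G X g (m (τ g⁻¹ n)) - m n at h1
  rw [h1, hτ]
  change _ = E (rs (CGrpSh.pts fp T) (sg A B X g) (E.symm m.toAddMonoidHom)) n - m n
  rw [hE, AddEquiv.apply_symm_apply]
  rfl

end perm

end K574.RetrF
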