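import Groth.Agent.MultTori.K574.GalEv
import Groth.Agent.MultTori.K964.AffYon
import Groth.Agent.MultTori.K964.ExtE
import Groth.Agent.MultTori.K964.DictBc
import Groth.Agent.MultTori.K965.LatTor
import Groth.Agent.CGrpSh.K731.Basic
import Groth.Agent.MultTori.K574.RetrF
import Groth.Agent.S18685

/-!
# Exact sequences of groups of multiplicative type from exact sequences of Galois modules
-/

set_option autoImplicit false
set_option linter.unusedSectionVars false
universe u
open CategoryTheory CategoryTheory.Limits AlgebraicGeometry TensorProduct MonoidalCategory CartesianMonoidalCategory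
open Opposite
open scoped MonObj

namespace K574.Seq

open K965.Gal K965.Pts K574.GalAlg K574.GalEv K574.GalPts K964.AffPt K964.AffYon

section mon

variable {A : Type u} [CommRing A]

/-- homomorphisms are detected on ring-valued points -/
theorem isMonHom_of_pts {M N : Over (Spec (CommRingCat.of A))} [GrpObj M] [GrpObj N] [IsAffine M.left] (f : M ⟶ N)
    (h : ∀ (T : Type u) [CommRing T] [Algebra A T] (x y : sp (algebraMap A T) ⟶ M),
      (x * y) ≫ f = (x ≫ f) * (y ≫ f)) : IsMonHom f where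
  one_hom := by
    apply ext_of_affine
    intro T _ _ x
    have h1 := h T 1 1
    rw [one_mul, left_eq_mul] at h1
    have h2 : (1 : sp (algebraMap A T) ⟶ M) = x ≫ η[M] := by
      rw [Hom.one_def]
      congr 1
      exact toUnit_unique _ _
    have h3 : (1 : sp (algebraMap A T) ⟶ N) = x ≫ η[N] := by
      rw [Hom.one_def]
      congr 1
      exact toUnit_unique _ _
    rw [← Category.assoc, ← h2, h1, h3]
  mul_hom := by
    apply ext_of_affine
    intro T _ _ x
    have h1 : x ≫ μ[M] = (x ≫ fst M M) * (x ≫ snd M M) := by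
      rw [Hom.mul_def, ← comp_lift, lift_fst_snd, Category.comp_id]
    have h2 : x ≫ (f ⊗ₘ f) ≫ μ[N] = (x ≫ fst M M ≫ f) * (x ≫ snd M M ≫ f) := by
      rw [Hom.mul_def, ← Category.assoc]
      congr 1
      ext1 <;> simp
    rw [← Category.assoc, h1, h, h2, Category.assoc, Category.assoc]

end mon

variable {A B : Type u} [CommRing A] [CommRing B] [Algebra A B] {G : Type} [Group G]
  [MulSemiringAction G B] [SMulCommClass G A B]
  {M T : Over (Spec (CommRingCat.of A))} [GrpObj M] [GrpObj T] [IsAffine M.left]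
  {Λ N : Type} [AddCommGroup Λ] [AddCommGroup N] [DistribMulAction G Λ] [DistribMulAction G N]
  (DM : K965.Dict A B G M Λ) (DN : K965.Dict A B G T N)

include DM DN in
/-- the homomorphism dual to an equivariant map -/
theorem exists_hom_of_dual (ψ : N →+ Λ) (hψ : ∀ (g : G) n, ψ (g • n) = g • ψ n) :
    ∃ f : M ⟶ T, IsMonHom f ∧ ∀ (R : Type u) [CommRing R] [Algebra A R] (x : sp (algebraMap A R) ⟶ M),
      DN.ch R (x ≫ f) = (DM.ch R x).comp ψ := by
  have h1 : ∀ (R : Type u) [CommRing R] [Algebra A R] (x : sp (algebraMap A R) ⟶ M),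
      ∃ y : sp (algebraMap A R) ⟶ T, DN.ch R y = (DM.ch R x).comp ψ := by
    intro R _ _ x
    refine DN.ch_surj R _ fun g n => ?_
    rw [AddMonoidHom.comp_apply, hψ, DM.ch_smul]
    rfl
  choose φ hφ using h1
  obtain ⟨f, hf⟩ := exists_hom (U := M) (X := T) (fun R _ _ x => φ R x) (by
    intro R R' _ _ _ _ θ x
    apply DN.ch_inj
    ext1 n
    rw [hφ]
    apply Additive.toMul.injective
    refine (DN.ch_nat R R' θ (φ R x) n).trans ?_
    rw [hφ]
    exact (DM.ch_nat R R' θ x (ψ n)).symm)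
  refine ⟨f, isMonHom_of_pts f fun R _ _ x y => ?_, fun R _ _ x => by rw [hf, hφ]⟩
  apply DN.ch_inj
  rw [DN.ch_mul, hf, hf, hf, hφ, hφ, hφ, DM.ch_mul]
  exact AddMonoidHom.add_comp _ _ _

section exact

variable [Fintype G] {F P : Over (Spec (CommRingCat.of A))} [GrpObj F] [GrpObj P] [IsAffine F.left] [IsAffine P.left]
  [IsCommMonObj M] [IsCommMonObj F] [IsCommMonObj P] {F' P' : Type} [AddCommGroup F'] [AddCommGroup P']
  [DistribMulAction G F'] [DistribMulAction G P'] (DF : K965.Dict A B G F F') (DP : K965.Dict A B G P P')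
  (f : M ⟶ F) [IsMonHom f] (g : F ⟶ P) [IsMonHom g] (i : P' →+ F') (π : F' →+ Λ)
  (hf : ∀ (R : Type u) [CommRing R] [Algebra A R] (x : sp (algebraMap A R) ⟶ M),
      DF.ch R (x ≫ f) = (DM.ch R x).comp π)
  (hg : ∀ (R : Type u) [CommRing R] [Algebra A R] (x : sp (algebraMap A R) ⟶ F),
      DP.ch R (x ≫ g) = (DF.ch R x).comp i)

include hf in
lemma inj_of (hπs : Function.Surjective π) {W : Over (Spec (CommRingCat.of A))} (x y : W ⟶ M) (h : x ≫ f = y ≫ f) :
    x = y := by
  have h1 : ex x ≫ f = ex y ≫ f := by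
    apply cancel_tos
    rw [← Category.assoc, tos_ex, ← Category.assoc, tos_ex, h]
  have h2 := congrArg (DF.ch _) h1
  rw [hf, hf] at h2
  have h3 : ex x = ex y := by
    apply DM.ch_inj
    exact (AddMonoidHom.cancel_right hπs).1 h2
  rw [← tos_ex x, h3, tos_ex]

lemma ch_one {N : Type} [AddCommGroup N] [DistribMulAction G N] {T : Over (Spec (CommRingCat.of A))} [GrpObj T]
    (D : K965.Dict A B G T N) (R : Type u) [CommRing R] [Algebra A R] :
    D.ch R (1 : sp (algebraMap A R) ⟶ T) = 0 := by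
  have h := D.ch_mul R 1 1
  rw [one_mul] at h
  refine AddMonoidHom.ext fun n => ?_
  have h1 : D.ch R 1 n = D.ch R 1 n + D.ch R 1 n := DFunLike.congr_fun h n
  exact left_eq_add.1 h1

include hg in
lemma comp_of {W : Over (Spec (CommRingCat.of A))} (hπi : ∀ p, π (i p) = 0) (x : W ⟶ M)
    (hf : ∀ (R : Type u) [CommRing R] [Algebra A R] (x : sp (algebraMap A R) ⟶ M),
      DF.ch R (x ≫ f) = (DM.ch R x).comp π) : (x ≫ f) ≫ g = 1 := by
  have h1 : (ex x ≫ f) ≫ g = 1 := by
    apply DP.ch_inj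
    rw [hg, hf, ch_one]
    ext1 p
    rw [AddMonoidHom.comp_apply, AddMonoidHom.comp_apply, hπi, map_zero]
    rfl
  have h2 := congrArg (fun z => tos W ≫ z) h1
  beta_reduce at h2
  rw [← Category.assoc, ← Category.assoc, tos_ex, MonObj.comp_one] at h2
  exact h2

include hf hg in
lemma mid_of (hπs : Function.Surjective π) (hπ : ∀ (a : G) n, π (a • n) = a • π n)
    (hker : ∀ n, π n = 0 → ∃ p, i p = n) {W : Over (Spec (CommRingCat.of A))} (x : W ⟶ F) (h : x ≫ g = 1) :
    ∃ z : W ⟶ M, z ≫ f = x := by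
  have h1 : ex x ≫ g = 1 := by
    apply cancel_tos
    rw [← Category.assoc, tos_ex, h, MonObj.comp_one]
  have h2 : (DF.ch _ (ex x)).comp i = 0 := by
    rw [← hg, h1, ch_one]
  have hle : π.ker ≤ (DF.ch _ (ex x)).ker := by
    intro n hn
    obtain ⟨p, rfl⟩ := hker n hn
    exact DFunLike.congr_fun h2 p
  obtain ⟨χ, hχ⟩ : ∃ χ : Λ →+ Additive (Γ(W.left, ⊤) ⊗[A] B)ˣ, ∀ n, χ (π n) = DF.ch _ (ex x) n :=
    ⟨π.liftOfSurjective hπs ⟨DF.ch _ (ex x), hle⟩, fun n => π.liftOfRightInverse_comp_apply _ _ _ n⟩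
  obtain ⟨z, hz⟩ := DM.ch_surj _ χ (fun a m => by
    obtain ⟨n, rfl⟩ := hπs m
    rw [← hπ, hχ, hχ]
    exact DF.ch_smul _ _ a n)
  refine ⟨tos W ≫ z, ?_⟩
  have h3 : z ≫ f = ex x := by
    apply DF.ch_inj
    rw [hf, hz]
    ext1 n
    exact hχ n
  rw [Category.assoc, h3, tos_ex]

include hg in
/-- sections of `P` lift to `F` after an fppf covering -/
theorem exists_univ_lift (hG : IsGal A B G) [AddGroup.FG F'] (hi : Function.Injective i) :
    ∃ (V : Over (Spec (CommRingCat.of A))) (q : V ⟶ P) (y : V ⟶ F), y ≫ g = q ∧ Flat q.left ∧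
      LocallyOfFinitePresentation q.left ∧ Surjective q.left := by
  obtain ⟨d⟩ := exists_dual hG
  have := hG.ff
  have := hG.et
  obtain ⟨E, _, _, ⟨e⟩⟩ := exists_sp P
  let s₀ : B →ₐ[A] E ⊗[A] B := Algebra.TensorProduct.includeRight
  let x' : sp (algebraMap A (E ⊗[A] B)) ⟶ P := ap (Algebra.TensorProduct.includeLeft : E →ₐ[A] E ⊗[A] B) ≫ e.hom
  let p₀ : P' →+ Additive (E ⊗[A] B)ˣ := evr DP s₀ x'
  let er : P' ≃+ i.range := AddMonoidHom.ofInjective hi
  obtain ⟨T', _, _, hfin, hfp, hff, n, hn⟩ := K964.CharExt.exists_extend i.range (E ⊗[A] B)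
    (p₀.comp er.symm.toAddMonoidHom)
  let _ : Algebra A T' := ((algebraMap (E ⊗[A] B) T').comp (algebraMap A (E ⊗[A] B))).toAlgebra
  have : IsScalarTower A (E ⊗[A] B) T' := IsScalarTower.of_algebraMap_eq fun _ => rfl
  let θ : (E ⊗[A] B) →ₐ[A] T' := IsScalarTower.toAlgHom A (E ⊗[A] B) T'
  obtain ⟨y, hy⟩ := evr_surjective DF (θ.comp s₀) d n
  let inE : E →ₐ[A] E ⊗[A] B := Algebra.TensorProduct.includeLeft
  refine ⟨sp (algebraMap A T'), ap θ ≫ x', y, ?_, ?_, ?_, ?_⟩
  · apply evr_injective DP (θ.comp s₀) d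
    have h1 : evr DP (θ.comp s₀) (y ≫ g) = (evr DF (θ.comp s₀) y).comp i := by
      rw [evr, hg]
      rfl
    have h2 : evr DP (θ.comp s₀) (ap θ ≫ x') = (um (θ : (E ⊗[A] B) →+* T')).comp p₀ := evr_nat DP s₀ θ x'
    rw [h1, hy, h2]
    refine AddMonoidHom.ext fun m => ?_
    have h3 := hn (er m)
    rw [AddMonoidHom.comp_apply, AddMonoidHom.comp_apply]
    refine Eq.trans ?_ (h3.trans ?_)
    · rfl
    · change K964.CharExt.um _ (p₀ (er.symm (er m))) = _
      rw [AddEquiv.symm_apply_apply]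
      rfl
  all_goals
    have e1 : (ap θ ≫ x').left = Spec.map (CommRingCat.ofHom (algebraMap (E ⊗[A] B) T')) ≫
      Spec.map (CommRingCat.ofHom (inE : E →+* E ⊗[A] B)) ≫ e.hom.left := rfl
    rw [e1]
    have hinE : (inE : E →+* E ⊗[A] B) = algebraMap E (E ⊗[A] B) := rfl
    have hinE1 : (inE : E →+* E ⊗[A] B).FaithfullyFlat := by
      rw [hinE, RingHom.faithfullyFlat_algebraMap_iff]
      infer_instance
    have hθ1 : (algebraMap (E ⊗[A] B) T').FaithfullyFlat := by
      rw [RingHom.faithfullyFlat_algebraMap_iff]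
      exact hff
    have he : IsIso (X := Spec (CommRingCat.of E)) e.hom.left := inferInstanceAs (IsIso ((Over.forget _).map e.hom))
    have he' : IsOpenImmersion (X := Spec (CommRingCat.of E)) e.hom.left := inferInstance
    have he3 : Surjective (X := Spec (CommRingCat.of E)) e.hom.left := inferInstance
  · have h1 : Flat (Spec.map (CommRingCat.ofHom (algebraMap (E ⊗[A] B) T'))) := by
      rw [Flat.SpecMap_iff]
      exact (RingHom.FaithfullyFlat.iff_flat_and_comap_surjective.1 hθ1).1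
    have h2 : Flat (Spec.map (CommRingCat.ofHom (inE : E →+* E ⊗[A] B))) := by
      rw [Flat.SpecMap_iff]
      exact (RingHom.FaithfullyFlat.iff_flat_and_comap_surjective.1 hinE1).1
    infer_instance
  · have h1 : LocallyOfFinitePresentation (Spec.map (CommRingCat.ofHom (algebraMap (E ⊗[A] B) T'))) := by
      rw [LocallyOfFinitePresentation.SpecMap_iff]
      exact RingHom.finitePresentation_algebraMap.2 hfp
    have h2 : LocallyOfFinitePresentation (Spec.map (CommRingCat.ofHom (inE : E →+* E ⊗[A] B))) := by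
      rw [LocallyOfFinitePresentation.SpecMap_iff, hinE]
      exact RingHom.finitePresentation_algebraMap.2 inferInstance
    infer_instance
  · have h1 : Surjective (Spec.map (CommRingCat.ofHom (algebraMap (E ⊗[A] B) T'))) := by
      rw [surjective_iff]
      exact (RingHom.FaithfullyFlat.iff_flat_and_comap_surjective.1 hθ1).2
    have h2 : Surjective (Spec.map (CommRingCat.ofHom (inE : E →+* E ⊗[A] B))) := by
      rw [surjective_iff]
      exact (RingHom.FaithfullyFlat.iff_flat_and_comap_surjective.1 hinE1).2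
    infer_instance

include DM DF DP hf hg in
/-- **The exact sequence of sheaves.** -/
theorem shortExact (hG : IsGal A B G) [AddGroup.FG F'] (hi : Function.Injective i) (hπs : Function.Surjective π)
    (hπ : ∀ (a : G) n, π (a • n) = a • π n) (hker : ∀ n, π n = 0 ↔ ∃ p, i p = n) :
    ∃ w : f ≫ g = 1, (CGrpSh.seq Scheme.fppfPrecoverage f g w).ShortExact := by
  have w : f ≫ g = 1 := by
    have h := comp_of DM DF DP f g i π hg (fun p => (hker _).2 ⟨p, rfl⟩) (𝟙 M) hf
    rwa [Category.id_comp] at h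
  refine ⟨w, ?_⟩
  have hm : Mono (CGrpSh.seq Scheme.fppfPrecoverage f g w).f := by
    apply K731.Basic.mono_of_injective
    intro W x y h
    have h1 := congrArg (fun z => (ULift.down (α := Additive (unop W ⟶ F)) z).toMul) h
    exact ULift.ext (α := Additive (unop W ⟶ M)) _ _
      (inj_of DM DF f π hf hπs (ULift.down (α := Additive (unop W ⟶ M)) x).toMul
        (ULift.down (α := Additive (unop W ⟶ M)) y).toMul h1)
  have he : Epi (CGrpSh.seq Scheme.fppfPrecoverage f g w).g := by
    apply K731.Basic.epi_of_exists_lift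
    intro W b
    obtain ⟨V, q, y, hyq, h1, h2, h3⟩ := exists_univ_lift DF DP g i hg hG hi
    let x : W ⟶ P := (ULift.down (α := Additive (W ⟶ P)) b).toMul
    refine ⟨(Sieve.generate (Presieve.singleton q)).pullback x,
      (QuotSh.J _ _).pullback_stable x (K828.FppfDisj.generate_mem q h1 h2 h3), ?_⟩
    rintro U k ⟨V', v, _, ⟨⟩, hv⟩
    refine ⟨ULift.up (Additive.ofMul (v ≫ y)), ?_⟩
    refine ULift.ext (α := Additive (U ⟶ P)) _ _ ?_
    change (v ≫ y) ≫ g = k ≫ x
    rw [Category.assoc, hyq, hv]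
  refine ⟨K731.Basic.exact_of_sections _ ?_⟩
  intro W x hx
  have h1 := congrArg (fun z => (ULift.down (α := Additive (W ⟶ P)) z).toMul) hx
  obtain ⟨z, hz⟩ := mid_of DM DF DP f g i π hf hg hπs hπ (fun n hn => (hker n).1 hn)
    (ULift.down (α := Additive (W ⟶ F)) x).toMul h1
  exact ⟨ULift.up (Additive.ofMul z), ULift.ext (α := Additive (W ⟶ F)) _ _ hz⟩

end exact

end K574.Seq
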