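import Groth.Agent.MultTori.K574.FinTor
import Groth.Agent.MultTori.K574.Seq

/-!
# Injectivity on `H²_fppf` for groups of multiplicative type over opens of spectra of regular factorial domains
-/

set_option autoImplicit false
set_option linter.unusedSectionVars false
universe u
open CategoryTheory CategoryTheory.Limits AlgebraicGeometry TensorProduct MonoidalCategory CartesianMonoidalCategory
open Opposite

namespace K574.MultH2

open K965.Gal K965.Pts K574.GalAlg K574.GalEv K574.GalPts K574.CechTwo K574.Cover K964.DivSec K574.Geo K574.Geo2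
open K574.RetrF K574.GmBr K574.FinTor K574.Seq K828 K828.BigCoh K827.H1

/-- the action defined by a representation -/
@[reducible] def actOf {G N : Type} [Group G] [AddCommGroup N] (τ : Representation ℤ G N) : DistribMulAction G N where
  smul g n := τ g n
  one_smul n := by
    change τ 1 n = n
    rw [map_one]
    rfl
  mul_smul g h n := by
    change τ (g * h) n = τ g (τ h n)
    rw [map_mul]
    rfl
  smul_zero g := map_zero (τ g)
  smul_add g _ _ := map_add (τ g) _ _

/-- the representation defined by an action -/
def repOf (G N : Type) [Group G] [AddCommGroup N] [DistribMulAction G N] : Representation ℤ G N where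
  toFun g := (DistribSMul.toAddMonoidHom N g).toIntLinearMap
  map_one' := by
    refine LinearMap.ext fun n => ?_
    exact one_smul G n
  map_mul' g h := by
    refine LinearMap.ext fun n => ?_
    exact mul_smul g h n

lemma repOf_apply {G N : Type} [Group G] [AddCommGroup N] [DistribMulAction G N] (g : G) (n : N) :
    repOf G N g n = g • n := rfl

variable {A B : Type u} [CommRing A] [IsDomain A] [CommRing B] [IsDomain B] [Algebra A B] {G : Type} [Group G]
  [Fintype G] [MulSemiringAction G B] [SMulCommClass G A B]
  {X : Over (Spec (CommRingCat.of A))} (j : Yb A ⟶ X) [IsOpenImmersion X.hom]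

theorem mult_H2 [UniqueFactorizationMonoid B] [IsRegularRing B] (h90 : H90P B G) (hG : IsGal A B G)
    (M : Over (Spec (CommRingCat.of A))) [GrpObj M] [IsCommMonObj M] [IsAffine M.left]
    (Λ : Type) [AddCommGroup Λ] [Module.Finite ℤ Λ] [DistribMulAction G Λ] (DM : K965.Dict A B G M Λ)
    (y : (bigCoh fp (Spec (CommRingCat.of A))).H (CGrpSh.pts fp M) 2 X)
    (h2 : (bigCoh fp (Spec (CommRingCat.of A))).res j y = 0) : y = 0 := by
  have := hG.ff
  have := hG.fin
  have hinj : FaithfulSMul A B := by
    rw [faithfulSMul_iff_algebraMap_injective]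
    intro a a' h
    have h1 := Module.FaithfullyFlat.tensorProduct_mk_injective (A := A) (B := B) A
    apply h1
    apply (TensorProduct.rid A B).injective
    simpa [Algebra.smul_def] using h
  obtain ⟨P', _, F', _, hP1, hP2, hF1, hF2, σ, τ, i, π, hi, hπ, hinji, hsurj, hrange, hperm, -⟩ :=
    Groth.Agent.S18685.result G Λ (repOf G Λ)
  let _ : DistribMulAction G P' := actOf σ
  let _ : DistribMulAction G F' := actOf τ
  obtain ⟨F, _, _, ⟨DF⟩, -⟩ := K965.LatTor.exists_group hG F'
  obtain ⟨P, _, _, ⟨DP⟩, -⟩ := K965.LatTor.exists_group hG P'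
  have hF : IsCommMonObj F := K964.ExtE.isCommMonObj_of_dict DF
  have hP : IsCommMonObj P := K964.ExtE.isCommMonObj_of_dict DP
  obtain ⟨f, hf, hf'⟩ := exists_hom_of_dual DM DF π.toAddMonoidHom (fun g n => hπ g n)
  obtain ⟨g, hg, hg'⟩ := exists_hom_of_dual DF DP i.toAddMonoidHom (fun g n => hi g n)
  have hfg : AddGroup.FG F' := Module.Finite.iff_addGroup_fg.1 inferInstance
  obtain ⟨w, hC⟩ := Seq.shortExact DM DF DP f g i.toAddMonoidHom π.toAddMonoidHom hf' hg' hG hinji hsurj
    (fun g n => hπ g n) (fun n => by
      change n ∈ LinearMap.ker π ↔ n ∈ LinearMap.range i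
      rw [hrange])
  have e1 : (bigCoh fp (Spec (CommRingCat.of A))).map (CGrpSh.seq fp f g w).f y = 0 := by
    apply torus_H2 j h90 hG DF
    exact ((bigCoh fp (Spec (CommRingCat.of A))).map_res (CGrpSh.seq fp f g w).f j y).symm.trans
      ((congrArg _ h2).trans (map_zero _))
  obtain ⟨z, hz⟩ := (bigCoh fp (Spec (CommRingCat.of A))).exact₁ hC y e1
  obtain ⟨d⟩ := exists_dual hG
  have e2 : z = 0 := H1_zero j h90 hG
    (H1_zero_of_pic d DP (snd X (sp (algebraMap A B))) (pic_Xc (A := A) (B := B) X)) DP σ (fun _ _ => rfl) hperm z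
  exact hz.symm.trans ((congrArg _ e2).trans (map_zero _))

end K574.MultH2
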