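import Groth.Agent.MultTori.K964.DictBc
import Groth.Agent.MultTori.K964.DivSec
import Groth.Agent.CalgB.RegHom2
import Mathlib.RingTheory.TensorProduct.MvPolynomial
import Mathlib.Algebra.MvPolynomial.Nilpotent
import Mathlib.RingTheory.Polynomial.UniqueFactorization

/-!
# The ring `A[x] ⊗[A] B`: factoriality, regularity and Hilbert 90
-/

set_option autoImplicit false
set_option linter.unusedSectionVars false
universe u
open TensorProduct

namespace K574.PolyB

open K965.Gal K964.DivSec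

variable {A B : Type u} [CommRing A] [CommRing B] [Algebra A B] (I : Type u)

/-- `A[x] ⊗ B ≃ B[x]` -/
noncomputable def eB (A B : Type u) [CommRing A] [CommRing B] [Algebra A B] (I : Type u) :
    (MvPolynomial I A) ⊗[A] B ≃+* MvPolynomial I B :=
  (Algebra.TensorProduct.comm A (MvPolynomial I A) B).toRingEquiv.trans
    (MvPolynomial.algebraTensorAlgEquiv (σ := I) A B).toRingEquiv

lemma eB_tmul (b : B) : eB A B I (1 ⊗ₜ b) = MvPolynomial.C b := by
  change MvPolynomial.algebraTensorAlgEquiv (σ := I) A B (Algebra.TensorProduct.comm A (MvPolynomial I A) B (1 ⊗ₜ b)) = _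
  rw [Algebra.TensorProduct.comm_tmul, MvPolynomial.algebraTensorAlgEquiv_tmul, map_one, MvPolynomial.smul_eq_C_mul,
    mul_one]

theorem isDomain [IsDomain B] : IsDomain ((MvPolynomial I A) ⊗[A] B) :=
  (eB A B I).toMulEquiv.isDomain

theorem ufd [IsDomain B] [UniqueFactorizationMonoid B] :
    have := isDomain (A := A) (B := B) I
    UniqueFactorizationMonoid ((MvPolynomial I A) ⊗[A] B) := by
  have := isDomain (A := A) (B := B) I
  exact (eB A B I).toMulEquiv.symm.uniqueFactorizationMonoid inferInstance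

theorem isRegular [Finite I] [IsRegularRing B] : IsRegularRing ((MvPolynomial I A) ⊗[A] B) :=
  IsRegularRing.of_ringEquiv (eB A B I).symm

theorem exists_of_isUnit [IsDomain B] (z : (MvPolynomial I A) ⊗[A] B) (hz : IsUnit z) :
    ∃ b : B, IsUnit b ∧ z = 1 ⊗ₜ b := by
  obtain ⟨b, hb, h⟩ := MvPolynomial.isUnit_iff_eq_C_of_isReduced.1 (hz.map (eB A B I))
  refine ⟨b, hb, ?_⟩
  apply (eB A B I).injective
  rw [eB_tmul]
  exact h

variable {G : Type} [Group G] [MulSemiringAction G B] [SMulCommClass G A B]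

attribute [local instance] K964.DictBc.actBc K964.DictBc.commBc

theorem h90P [IsDomain B] (h : H90P B G) : H90P ((MvPolynomial I A) ⊗[A] B) G := by
  intro D f hf
  have h1 : ∀ d : D, ∃ c : Bˣ, (f d : (MvPolynomial I A) ⊗[A] B) = 1 ⊗ₜ (c : B) := by
    intro d
    obtain ⟨b, hb, hbd⟩ := exists_of_isUnit I (f d : (MvPolynomial I A) ⊗[A] B) (f d).isUnit
    exact ⟨hb.unit, hbd⟩
  choose c hc using h1
  have hinj : ∀ b b' : B, (1 : MvPolynomial I A) ⊗ₜ[A] b = 1 ⊗ₜ b' → b = b' := by
    intro b b' hbb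
    have h2 := congrArg (eB A B I) hbb
    rw [eB_tmul, eB_tmul] at h2
    exact MvPolynomial.C_injective _ _ h2
  obtain ⟨u, hu⟩ := h D c (by
    intro d e
    apply hinj
    have h2 := hf d e
    rw [hc, hc, hc, K964.DictBc.smul_eq, act_tmul, Algebra.TensorProduct.tmul_mul_tmul, mul_one] at h2
    exact h2)
  let v : ((MvPolynomial I A) ⊗[A] B)ˣ :=
    Units.map ((Algebra.TensorProduct.includeRight : B →ₐ[A] (MvPolynomial I A) ⊗[A] B) : B →* _) u
  have hv : (v : (MvPolynomial I A) ⊗[A] B) = 1 ⊗ₜ (u : B) := rfl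
  refine ⟨v, fun d => ?_⟩
  rw [hc, hv, K964.DictBc.smul_eq, act_tmul, Algebra.TensorProduct.tmul_mul_tmul, mul_one, hu]

end K574.PolyB
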