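import Groth.Agent.MultTori.K574.Situ
import Groth.Agent.MultTori.K574.PolyB
import Groth.Agent.TateLoc.K809.PtsPull
import Mathlib.AlgebraicGeometry.FunctionField
import Mathlib.RingTheory.RegularLocalRing.Polynomial

/-!
# Injectivity on `H²_fppf` for open subschemes of affine spaces over regular semilocal domains
-/

set_option autoImplicit false
set_option linter.unusedSectionVars false
universe u
open CategoryTheory CategoryTheory.Limits AlgebraicGeometry TensorProduct MonoidalCategory CartesianMonoidalCategory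
open Opposite

namespace K574.OpenH2

open K965.Gal K965.Pts K574.GalAlg K574.GalEv K574.GalPts K574.CechTwo K574.Cover K964.DivSec K574.Geo K574.Geo2
open K574.RetrF K574.GmBr K574.FinTor K574.Seq K574.MultH2 K828 K828.BigCoh K827.H1

/-- a morphism from the spectrum of a local ring factors through the spectrum of the local ring of its image -/
lemma exists_fromSpecStalk {X : Scheme.{u}} {R : CommRingCat.{u}} [IsLocalRing R] (f : Spec R ⟶ X) (x : X)
    (h : f (IsLocalRing.closedPoint R) = x) : ∃ k : Spec R ⟶ Spec (X.presheaf.stalk x), k ≫ X.fromSpecStalk x = f := by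
  subst h
  exact ⟨_, Scheme.Spec_stalkClosedPointTo_fromSpecStalk f⟩

/-- the generic point -/
lemma generic_eq {R : Type u} [CommRing R] [IsDomain R] {Z : Scheme.{u}} [IsIntegral Z]
    (f : Z ⟶ Spec (CommRingCat.of R)) [IsOpenImmersion f] (z : Z) (hz : (f z).asIdeal = ⊥) : z = genericPoint Z := by
  apply Inseparable.eq
  apply Specializes.antisymm
  · rw [← f.isOpenEmbedding.isInducing.specializes_iff]
    refine (PrimeSpectrum.le_iff_specializes _ _).1 ?_
    change (f z).asIdeal ≤ _
    rw [hz]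
    exact bot_le
  · exact genericPoint_specializes z

attribute [local instance] K964.DictBc.actBc K964.DictBc.commBc

theorem open_H2 (A : Type u) [CommRing A] [IsDomain A] [IsRegularRing A] [Finite (MaximalSpectrum A)]
    (N : Over (Spec (CommRingCat.of A))) [GrpObj N] [IsCommMonObj N]
    (hN : ∃ (Λ : Type) (_ : AddCommGroup Λ), AddGroup.FG Λ ∧
      TwC.Locally (Spec (CommRingCat.of A)) .finiteEtale
        (fun S' g => Nonempty (Grp.mk (Red.bc g N) ≅ Grp.mk (Red.DS S' Λ))))
    (I : Type u) [Finite I] (U : Scheme.{u}) [IsIntegral U]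
    (φ : U ⟶ Spec (CommRingCat.of (MvPolynomial I A))) [IsOpenImmersion φ] (h : U ⟶ Spec (CommRingCat.of A))
    (hφ : φ ≫ Spec.map (CommRingCat.ofHom (algebraMap A (MvPolynomial I A))) = h)
    (y : BigSite.H fp U (CGrpSh.pts fp (Red.bc h N)) 2)
    (hy : HRes.pull fp (U.fromSpecStalk (genericPoint U)) (CGrpSh.pts fp (Red.bc h N)) 2 y = 0) : y = 0 := by
  obtain ⟨Λ, _, hΛ, hN⟩ := hN
  obtain ⟨B, _, _, G, _, _, _, _, _, hG, hB1, hB2, hB3, h90, ⟨D⟩, haff⟩ := K574.Situ.exists_situ A N hN
  have hfin : Module.Finite ℤ Λ := Module.Finite.iff_addGroup_fg.2 hΛ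
  let R := MvPolynomial I A
  let 𝔅 := R ⊗[A] B
  have e1 : IsDomain 𝔅 := K574.PolyB.isDomain I
  have e2 : UniqueFactorizationMonoid 𝔅 := K574.PolyB.ufd I
  have e3 : IsRegularRing 𝔅 := K574.PolyB.isRegular I
  have e4 : H90P 𝔅 G := K574.PolyB.h90P I h90
  have e5 : IsGal R 𝔅 G := K964.DictBc.isGal_bc A B R G hG
  let t : Spec (CommRingCat.of R) ⟶ Spec (CommRingCat.of A) := K964.BcPt.tb A R
  let D' : K965.Dict R 𝔅 G (Red.bc t N) Λ := K964.DictBc.bc D R
  have haff' : IsAffine (Red.bc t N).left := inferInstanceAs (IsAffine (pullback N.hom t))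
  have hcomm : IsCommMonObj (Red.bc t N) := K964.ExtE.isCommMonObj_of_dict D'
  let X : Over (Spec (CommRingCat.of R)) := Over.mk φ
  have hX : IsOpenImmersion X.hom := inferInstanceAs (IsOpenImmersion φ)
  have hXn : Nonempty X.left := inferInstanceAs (Nonempty U)
  obtain ⟨j⟩ := exists_j X
  -- the comparison of sheaves
  let gg : Over.mk h ⟶ Over.mk t := Over.homMk φ hφ
  let E : CGrpSh.pts fp (Red.bc h N) ≅ (BigSite.pullBig fp φ AddCommGrpCat.{u + 1}).obj (CGrpSh.pts fp (Red.bc t N)) :=
    (K809.PtsPull.ptsPull fp h N).symm ≪≫ (HRes.pullIso fp (CGrpSh.pts fp N) gg).symm ≪≫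
      (BigSite.pullBig fp φ AddCommGrpCat.{u + 1}).mapIso (K809.PtsPull.ptsPull fp t N)
  apply eq_zero_of_map_iso E
  let y' : (bigCoh fp (Spec (CommRingCat.of R))).H (CGrpSh.pts fp (Red.bc t N)) 2 X := Sheaf.H.map E.hom 2 y
  change y' = 0
  apply mult_H2 j e4 e5 (Red.bc t N) Λ D'
  -- the generic point
  let g := U.fromSpecStalk (genericPoint U)
  let j₁ : Over.mk (g ≫ φ) ⟶ X := Over.homMk g rfl
  have h1 : (bigCoh fp (Spec (CommRingCat.of R))).res j₁ y' = 0 := by
    have h2 : HRes.pull fp g _ 2 (Sheaf.H.map E.hom 2 y) = 0 := by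
      refine (HRes.pull_map fp g E.hom 2 y).trans ?_
      exact (congrArg _ hy).trans (map_zero _)
    exact (congrArg (Sheaf.H.map (HRes.pullIso fp (CGrpSh.pts fp (Red.bc t N)) j₁).hom 2) h2).trans (map_zero _)
  obtain ⟨k, hk⟩ := exists_fromSpecStalk (R := CommRingCat.of (FractionRing R)) j.left (genericPoint U) (by
    apply generic_eq (R := R) φ
    have h3 : φ (j.left (IsLocalRing.closedPoint (FractionRing R))) =
        (Yb R).hom (IsLocalRing.closedPoint (FractionRing R)) := by
      rw [← Over.w j]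
      rfl
    rw [h3]
    change Ideal.comap (algebraMap R (FractionRing R)) (IsLocalRing.maximalIdeal (FractionRing R)) = ⊥
    rw [(IsLocalRing.isField_iff_maximalIdeal_eq).1 (Field.toIsField (FractionRing R)), ← RingHom.ker_eq_comap_bot]
    exact (RingHom.injective_iff_ker_eq_bot _).1 (IsFractionRing.injective R (FractionRing R)))
  let k' : Yb R ⟶ Over.mk (g ≫ φ) := Over.homMk k (by
    exact (Category.assoc _ _ _).symm.trans ((congrArg (fun z => z ≫ φ) hk).trans (Over.w j)))
  have hj : j = k' ≫ j₁ := by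
    ext1
    exact hk.symm
  rw [hj, (bigCoh fp (Spec (CommRingCat.of R))).res_comp, h1, map_zero]

end K574.OpenH2
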