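import Groth.Agent.MultTori.K574.MultH2
import Groth.Agent.MultTori.K964.MDict
import Groth.Agent.MultTori.K964.SemiGal
import Groth.Agent.CalgB.RegHom2

/-!
# The splitting ring of an isotrivial group over a regular semilocal domain
-/

set_option autoImplicit false
set_option linter.unusedSectionVars false
universe u
open CategoryTheory CategoryTheory.Limits AlgebraicGeometry TensorProduct MonoidalCategory CartesianMonoidalCategory
open Opposite

namespace K574.Situ

open K965.Gal K965.Pts K964.DivSec

theorem connected_of_isDomain (A : Type u) [CommRing A] [IsDomain A] : ConnectedSpace (Spec (CommRingCat.of A)) :=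
  inferInstanceAs (ConnectedSpace (PrimeSpectrum A))

/-- the splitting ring of a group of multiplicative type over a regular semilocal domain -/
theorem exists_situ (A : Type u) [CommRing A] [IsDomain A] [IsRegularRing A] [Finite (MaximalSpectrum A)]
    (M : Over (Spec (CommRingCat.of A))) [GrpObj M] {Λ : Type} [AddCommGroup Λ]
    (hM : TwC.Locally (Spec (CommRingCat.of A)) .finiteEtale
        (fun S' g => Nonempty (Grp.mk (Red.bc g M) ≅ Grp.mk (Red.DS S' Λ)))) :
    ∃ (B : Type u) (_ : CommRing B) (_ : Algebra A B) (G : Type) (_ : Group G) (_ : Fintype G)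
      (_ : MulSemiringAction G B) (_ : SMulCommClass G A B) (_ : DistribMulAction G Λ),
      IsGal A B G ∧ IsDomain B ∧ IsRegularRing B ∧ UniqueFactorizationMonoid B ∧ H90P B G ∧
      Nonempty (K965.Dict A B G M Λ) ∧ IsAffine M.left := by
  have := connected_of_isDomain A
  obtain ⟨B, _, _, G, _, _, _, _, _, hG, hconn, hD, haff⟩ := K964.MDict.exists_dict M hM
  have := hG.ff
  have := hG.fin
  have := hG.et
  have h1 : UniqueFactorizationMonoid A := K964.SemiUFD.ufd_of_regular A
  obtain ⟨x₀⟩ := (inferInstance : Nonempty (Spec (CommRingCat.of B)))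
  have hnt : Nontrivial B := PrimeSpectrum.nontrivial (show PrimeSpectrum B from x₀)
  obtain ⟨h2, -⟩ := K964.SemiGal.isDomain_of_etale (A := A) (B := B) (fun x hx => K965.Gal.idem_trivial x hx)
  have h3 : IsRegularRing B := Groth.Agent.CalgB.RegHom2.isRegularRing_of_etale A B
  have h4 : Finite (MaximalSpectrum B) := K964.SemiGal.finite_max (A := A)
  have h5 : UniqueFactorizationMonoid B := K964.SemiUFD.ufd_of_regular B
  exact ⟨B, _, _, G, _, _, _, _, _, hG, h2, h3, h5, K964.SemiGal.h90P hG, hD, haff⟩

end K574.Situ
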